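import Cfsg.Agent.Lib.PermSmall.DoublePrime.Split

/-!
The characters of the algebra of invariant matrices, their idempotents and the class functions
they afford.
-/

set_option autoImplicit false
set_option linter.unusedSectionVars false

noncomputable section

namespace CfsgLib.PermSmall.DoublePrime.Frame

open MulAction
open scoped Classical ComplexConjugate Matrix

variable {α : Type*} [Fintype α] [DecidableEq α] {G : Subgroup (Equiv.Perm α)} {p : ℕ}
  [hp : Fact p.Prime] (C : Frame G p)

/-- The projection at a non-trivial character. -/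
def R (m : ZMod p) : Matrix Bool Bool ℂ := (C.lam : ℂ)⁻¹ • C.BM C.gramC m

/-- The eigenvalue outside the submodule. -/
def theta (X : Matrix α α ℂ) (m : ZMod p) : ℂ :=
  C.BM X m false false + C.BM X m true true - C.mu X

section

variable (hs : C.Split)

include hs

theorem R_trace {m : ZMod p} (hm : m ≠ 0) : C.R m false false + C.R m true true = 1 := by
  simp only [R, Matrix.smul_apply, smul_eq_mul, ← mul_add, hs.2 m hm, inv_mul_cancel₀ C.lamC_ne]

theorem R_sq (m : ZMod p) : C.R m * C.R m = C.R m := by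
  simp only [R, Matrix.smul_mul, Matrix.mul_smul, C.BM_gram_sq, smul_smul]
  congr 1
  rw [inv_mul_cancel₀ C.lamC_ne, mul_one]

theorem R_det {m : ZMod p} (hm : m ≠ 0) :
    C.R m false false * C.R m true true = C.R m false true * C.R m true false := by
  have h := congrFun (congrFun (C.R_sq hs m) false) false
  simp only [Matrix.mul_apply, Fintype.sum_bool] at h
  linear_combination (C.R m false false) * C.R_trace hs hm - h

theorem decomp {X : Matrix α α ℂ} (hX : C.Inv X) {m : ZMod p} (hm : m ≠ 0) :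
    C.BM X m = C.mu X • C.R m + C.theta X m • (1 - C.R m) := by
  set N := C.BM X m - C.mu X • (1 : Matrix Bool Bool ℂ) with hN
  have h1 : N * C.R m = 0 := by
    rw [hN, R, Matrix.mul_smul, sub_mul, Matrix.smul_mul, one_mul, ← C.BM_mul hX C.inv_gram,
      C.mul_gram hX, C.BM_smul, sub_self, smul_zero]
  have h2 : C.R m * N = 0 := by
    rw [hN, R, Matrix.smul_mul, mul_sub, Matrix.mul_smul, mul_one, ← C.BM_mul C.inv_gram hX,
      C.gram_mul hX, C.BM_smul, sub_self, smul_zero]
  have a00 := congrFun (congrFun h1 false) false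
  have a01 := congrFun (congrFun h1 false) true
  have a10 := congrFun (congrFun h1 true) false
  have a11 := congrFun (congrFun h1 true) true
  have b00 := congrFun (congrFun h2 false) false
  have b01 := congrFun (congrFun h2 false) true
  have b10 := congrFun (congrFun h2 true) false
  have b11 := congrFun (congrFun h2 true) true
  simp only [hN, Matrix.mul_apply, Fintype.sum_bool, Matrix.sub_apply, Matrix.smul_apply,
    Matrix.one_apply, Matrix.zero_apply, smul_eq_mul, Bool.false_eq_true, Bool.true_eq_false,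
    if_true, if_false, mul_one, mul_zero, sub_zero] at a00 a01 a10 a11 b00 b01 b10 b11
  have ht := C.R_trace hs hm
  ext i j
  cases i <;> cases j <;>
    simp only [theta, Matrix.add_apply, Matrix.sub_apply, Matrix.smul_apply, Matrix.one_apply,
      smul_eq_mul, Bool.false_eq_true, Bool.true_eq_false, if_true, if_false, mul_one, mul_zero,
      zero_sub, sub_zero]
  · linear_combination a00 - b11 - (C.BM X m false false - C.mu X) * 0 +
      (C.BM X m true true - C.mu X) * ht
  · linear_combination a01 + b01 - C.BM X m false true * ht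
  · linear_combination a10 + b10 - C.BM X m true false * ht
  · linear_combination a11 - b00 + (C.BM X m false false - C.mu X) * ht

theorem det_BM {X : Matrix α α ℂ} (hX : C.Inv X) {m : ZMod p} (hm : m ≠ 0) :
    C.BM X m false false * C.BM X m true true - C.BM X m false true * C.BM X m true false =
      C.mu X * C.theta X m := by
  rw [C.decomp hs hX hm]
  simp only [Matrix.add_apply, Matrix.sub_apply, Matrix.smul_apply, Matrix.one_apply,
    smul_eq_mul, Bool.false_eq_true, Bool.true_eq_false, if_true, if_false]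
  linear_combination (C.mu X - C.theta X m) ^ 2 * C.R_det hs hm +
    (C.mu X - C.theta X m) * C.theta X m * C.R_trace hs hm

theorem theta_mul {X Y : Matrix α α ℂ} (hX : C.Inv X) (hY : C.Inv Y) {m : ZMod p} (hm : m ≠ 0) :
    C.theta (X * Y) m = C.theta X m * C.theta Y m := by
  have hdet := C.R_det hs hm
  have ht := C.R_trace hs hm
  rw [theta, C.mu_mul hX hY, C.BM_mul hX hY, C.decomp hs hX hm, C.decomp hs hY hm]
  simp only [Matrix.mul_apply, Fintype.sum_bool, Matrix.add_apply, Matrix.sub_apply,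
    Matrix.smul_apply, Matrix.one_apply, smul_eq_mul, Bool.false_eq_true, Bool.true_eq_false,
    if_true, if_false]
  linear_combination ((C.mu X - C.theta X m) * (C.mu Y - C.theta Y m) * (C.R m false false +
      C.R m true true + 1) + (C.mu X - C.theta X m) * C.theta Y m +
      C.theta X m * (C.mu Y - C.theta Y m)) * ht -
    2 * (C.mu X - C.theta X m) * (C.mu Y - C.theta Y m) * hdet

theorem inv_comm {X Y : Matrix α α ℂ} (hX : C.Inv X) (hY : C.Inv Y) : X * Y = Y * X := by
  refine C.BM_injective (C.inv_mul hX hY) (C.inv_mul hY hX) fun m => ?_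
  rw [C.BM_mul hX hY, C.BM_mul hY hX]
  rcases eq_or_ne m 0 with rfl | hm
  · obtain ⟨x1, x2⟩ := C.BM_zero_symm hX
    obtain ⟨y1, y2⟩ := C.BM_zero_symm hY
    ext i j
    cases i <;> cases j <;> simp only [Matrix.mul_apply, Fintype.sum_bool, x1, x2, y1, y2] <;> ring
  · rw [C.decomp hs hX hm, C.decomp hs hY hm]
    ext i j
    cases i <;> cases j <;>
      simp only [Matrix.mul_apply, Fintype.sum_bool, Matrix.add_apply, Matrix.sub_apply,
        Matrix.smul_apply, Matrix.one_apply, smul_eq_mul, Bool.false_eq_true, Bool.true_eq_false,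
        if_true, if_false] <;> ring

theorem eq_zero_of {X : Matrix α α ℂ} (hX : C.Inv X) {m : ZMod p} (hm : m ≠ 0)
    (h : C.mu X = 0) (h' : C.theta X m = 0) : C.BM X m = 0 := by
  rw [C.decomp hs hX hm, h, h', zero_smul, zero_smul, add_zero]

end

/-- A character of the algebra of invariant matrices respecting adjoints. -/
structure IsChar (χ : Matrix α α ℂ →ₗ[ℂ] ℂ) : Prop where
  map_mul : ∀ X Y, C.Inv X → C.Inv Y → χ (X * Y) = χ X * χ Y
  map_adjoint : ∀ X, C.Inv X → χ Xᴴ = conj (χ X)
  map_one : χ 1 = 1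

/-- The valency as a linear map. -/
def degL : Matrix α α ℂ →ₗ[ℂ] ℂ where
  toFun := C.deg
  map_add' X Y := by simp only [deg, C.BM_add, Matrix.add_apply]; ring
  map_smul' c X := by simp [deg, C.BM_smul, mul_add]

/-- The eigenvalue at the separating vector as a linear map. -/
def muL : Matrix α α ℂ →ₗ[ℂ] ℂ where
  toFun := C.mu
  map_add' X Y := by simp only [mu, C.BM_add, Matrix.add_apply]; ring
  map_smul' c X := by simp [mu, C.BM_smul, mul_sub]

/-- The outside eigenvalue as a linear map. -/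
def thetaL (m : ZMod p) : Matrix α α ℂ →ₗ[ℂ] ℂ where
  toFun X := C.theta X m
  map_add' X Y := by simp only [theta, mu, C.BM_add, Matrix.add_apply]; ring
  map_smul' c X := by simp [theta, mu, C.BM_smul]; ring

theorem degL_apply (X : Matrix α α ℂ) : C.degL X = C.deg X := rfl
theorem muL_apply (X : Matrix α α ℂ) : C.muL X = C.mu X := rfl
theorem thetaL_apply (m : ZMod p) (X : Matrix α α ℂ) : C.thetaL m X = C.theta X m := rfl

theorem isChar_deg : C.IsChar C.degL :=
  ⟨fun _ _ hX hY => C.deg_mul hX hY, fun _ hX => C.deg_adjoint hX, by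
    simp [degL_apply, deg, C.BM_one]⟩

theorem isChar_mu : C.IsChar C.muL :=
  ⟨fun _ _ hX hY => C.mu_mul hX hY, fun _ hX => C.mu_adjoint hX, by
    simp [muL_apply, mu, C.BM_one]⟩

theorem isChar_theta (hs : C.Split) {m : ZMod p} (hm : m ≠ 0) : C.IsChar (C.thetaL m) :=
  ⟨fun _ _ hX hY => C.theta_mul hs hX hY hm, fun X hX => by
    simp only [thetaL_apply, theta, C.mu_adjoint hX, C.BM_adjoint hX, Matrix.conjTranspose_apply,
      map_add, map_sub, Complex.star_def], by
    simp [thetaL_apply, theta, mu, C.BM_one]⟩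

variable {C}
variable {χ χ' : Matrix α α ℂ →ₗ[ℂ] ℂ}

theorem IsChar.apply_eq (_h : C.IsChar χ) {X : Matrix α α ℂ} (hX : C.Inv X) :
    χ X = ∑ O, X C.a₀ (C.rep O) * χ (C.adj O) := by
  conv_lhs => rw [C.expand hX]
  rw [map_sum]
  simp [map_smul]

variable (C) in
/-- The unnormalised idempotent of a character. -/
def pre (χ : Matrix α α ℂ →ₗ[ℂ] ℂ) : Matrix α α ℂ :=
  ∑ O, (conj (χ (C.adj O)) / (C.size O : ℂ)) • C.adj O

theorem inv_pre : C.Inv (C.pre χ) := fun g a b => by
  simp [pre, Matrix.sum_apply, C.inv_adj _ g]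

theorem pre_apply (b : α) :
    C.pre χ C.a₀ b = conj (χ (C.adj (C.rel C.a₀ b))) / (C.size (C.rel C.a₀ b) : ℂ) := by
  simp [pre, Matrix.sum_apply, adj]

theorem IsChar.pair (h : C.IsChar χ) {Z : Matrix α α ℂ} (hZ : C.Inv Z) :
    ∑ b, conj (Z C.a₀ b) * C.pre χ C.a₀ b = conj (χ Z) := by
  rw [h.apply_eq hZ, map_sum, Finset.sum_congr rfl fun b _ => show
    conj (Z C.a₀ b) * C.pre χ C.a₀ b = (fun O : C.Orb => conj (Z C.a₀ (C.rep O)) *
      (conj (χ (C.adj O)) / (C.size O : ℂ))) (C.rel C.a₀ b) by rw [pre_apply, C.apply_rel hZ b],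
    C.sum_fibres fun O : C.Orb => conj (Z C.a₀ (C.rep O)) *
      (conj (χ (C.adj O)) / (C.size O : ℂ))]
  refine Finset.sum_congr rfl fun O _ => ?_
  have hs : (C.size O : ℂ) ≠ 0 := by exact_mod_cast (C.size_pos O).ne'
  rw [_root_.map_mul]
  field_simp

theorem IsChar.mul_pre (hs : C.Split) (h : C.IsChar χ) {Y : Matrix α α ℂ} (hY : C.Inv Y) :
    Y * C.pre χ = χ Y • C.pre χ := by
  set D := Y * C.pre χ - χ Y • C.pre χ
  have hD : C.Inv D := C.inv_sub (C.inv_mul hY inv_pre) (C.inv_smul inv_pre _)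
  have key : ∀ Z, C.Inv Z → ∑ b, conj (Z C.a₀ b) * D C.a₀ b = 0 := by
    intro Z hZ
    have e1 : ∀ X Z' : Matrix α α ℂ, ∑ b, conj (Z' C.a₀ b) * X C.a₀ b = (X * Z'ᴴ) C.a₀ C.a₀ := by
      intro X Z'
      rw [Matrix.mul_apply]
      exact Finset.sum_congr rfl fun b _ => by
        rw [Matrix.conjTranspose_apply, Complex.star_def, mul_comm]
    have h1 : ∑ b, conj (Z C.a₀ b) * (Y * C.pre χ) C.a₀ b = conj (χ (Yᴴ * Z)) := by
      rw [← h.pair (C.inv_mul (C.inv_adjoint hY) hZ), e1, e1, Matrix.conjTranspose_mul,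
        Matrix.conjTranspose_conjTranspose, mul_assoc,
        C.inv_comm hs hY (C.inv_mul inv_pre (C.inv_adjoint hZ)), mul_assoc]
    simp only [D, Matrix.sub_apply, Matrix.smul_apply, smul_eq_mul, mul_sub,
      Finset.sum_sub_distrib, h1, h.map_mul _ _ (C.inv_adjoint hY) hZ, h.map_adjoint _ hY,
      map_mul, Complex.conj_conj]
    simp only [mul_left_comm _ (χ Y), ← Finset.mul_sum, h.pair hZ]
    rw [_root_.map_mul, Complex.conj_conj]
    ring
  have h0 := key D hD
  simp only [← Complex.normSq_eq_conj_mul_self] at h0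
  norm_cast at h0
  have hrow : ∀ b, D C.a₀ b = 0 := fun b =>
    Complex.normSq_eq_zero.1 ((Finset.sum_eq_zero_iff_of_nonneg fun i _ =>
      Complex.normSq_nonneg _).1 h0 b (Finset.mem_univ b))
  have : D = 0 := by
    ext a b
    rw [Matrix.zero_apply, ← C.mv_spec a, ← smul_inv_smul (C.mv a) b, hD, hrow]
  exact sub_eq_zero.1 this

theorem IsChar.norm_ne (h : C.IsChar χ) : χ (C.pre χ) ≠ 0 := by
  have e : χ (C.pre χ) =
      ((∑ O, Complex.normSq (χ (C.adj O)) / (C.size O : ℝ) : ℝ) : ℂ) := by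
    rw [pre, map_sum]
    push_cast
    refine Finset.sum_congr rfl fun O _ => ?_
    rw [map_smul, smul_eq_mul, Complex.normSq_eq_conj_mul_self]
    ring
  have h1 : (0 : ℝ) < ∑ O, Complex.normSq (χ (C.adj O)) / (C.size O : ℝ) := by
    refine Finset.sum_pos' (fun O _ => div_nonneg (Complex.normSq_nonneg _) (Nat.cast_nonneg _))
      ⟨C.base, Finset.mem_univ _, ?_⟩
    rw [C.adj_base, h.map_one]
    simpa using C.size_pos C.base
  rw [e]
  exact_mod_cast h1.ne'

variable (C) in
/-- The idempotent of a character. -/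
def idem (χ : Matrix α α ℂ →ₗ[ℂ] ℂ) : Matrix α α ℂ := (χ (C.pre χ))⁻¹ • C.pre χ

theorem inv_idem : C.Inv (C.idem χ) := C.inv_smul inv_pre _

theorem IsChar.mul_idem (hs : C.Split) (h : C.IsChar χ) {Y : Matrix α α ℂ} (hY : C.Inv Y) :
    Y * C.idem χ = χ Y • C.idem χ := by
  rw [idem, Matrix.mul_smul, h.mul_pre hs hY, smul_comm]

theorem IsChar.idem_self (h : C.IsChar χ) : χ (C.idem χ) = 1 := by
  rw [idem, map_smul, smul_eq_mul, inv_mul_cancel₀ h.norm_ne]

theorem IsChar.idem_other (hs : C.Split) (h : C.IsChar χ) (h' : C.IsChar χ') {Y : Matrix α α ℂ}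
    (hY : C.Inv Y) (hne : χ Y ≠ χ' Y) : χ' (C.idem χ) = 0 := by
  have e := congrArg χ' (h.mul_idem hs hY)
  rw [h'.map_mul _ _ hY inv_idem, map_smul, smul_eq_mul] at e
  exact (mul_eq_zero.1 (show (χ' Y - χ Y) * χ' (C.idem χ) = 0 by linear_combination e)).resolve_left
    (sub_ne_zero.2 (Ne.symm hne))

theorem IsChar.idem_adjoint (hs : C.Split) (h : C.IsChar χ) : (C.idem χ)ᴴ = C.idem χ := by
  have hF : C.Inv (C.idem χ)ᴴ := C.inv_adjoint inv_idem
  have h1 : (C.idem χ)ᴴ * C.idem χ = C.idem χ := by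
    rw [h.mul_idem hs hF, h.map_adjoint _ inv_idem, h.idem_self]
    simp
  have h2 := congrArg Matrix.conjTranspose h1
  rw [Matrix.conjTranspose_mul, Matrix.conjTranspose_conjTranspose, h1] at h2
  exact h2.symm

theorem IsChar.idem_mul (hs : C.Split) (h : C.IsChar χ) :
    C.idem χ * C.idem χ = C.idem χ := by
  rw [h.mul_idem hs inv_idem, h.idem_self, one_smul]

variable (C) in
/-- The class function afforded by a character. -/
def phi (χ : Matrix α α ℂ →ₗ[ℂ] ℂ) (g : G) : ℂ := ∑ a, C.idem χ (g • a) a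

theorem phi_conj (g h : G) : C.phi χ (h * g * h⁻¹) = C.phi χ g := by
  refine Fintype.sum_equiv (MulAction.toPerm h⁻¹) _ _ fun a => ?_
  simp only [MulAction.toPerm_apply]
  rw [← inv_idem (χ := χ) h⁻¹, mul_smul, mul_smul, inv_smul_smul]

theorem idem_conj (hs : C.Split) (h : C.IsChar χ) (a b : α) :
    conj (C.idem χ a b) = C.idem χ b a := by
  conv_rhs => rw [← h.idem_adjoint hs]
  rfl

/-- Orthogonality. -/
theorem phi_orth (hs : C.Split) (h : C.IsChar χ) (h' : C.IsChar χ') :
    (χ' (C.idem χ) = 0 → ∑ g, C.phi χ g * conj (C.phi χ' g) = 0) ∧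
      ∑ g, C.phi χ g * conj (C.phi χ g) = Fintype.card G := by
  let Z : α → α → Matrix α α ℂ := fun a b => Matrix.of fun u v =>
    ∑ g : G, if g • a = u ∧ g • b = v then (1 : ℂ) else 0
  have hZ : ∀ a b, C.Inv (Z a b) := by
    intro a b k u v
    refine Fintype.sum_equiv (Equiv.mulLeft k⁻¹) _ _ fun g => ?_
    simp [mul_smul, inv_smul_eq_iff]
  have hZT : ∀ a b, (Z a b)ᵀ = ∑ g : G, Matrix.single (g • b) (g • a) (1 : ℂ) := by
    intro a b
    ext u v
    simp [Z, Matrix.sum_apply, Matrix.single_apply, and_comm]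
  have hsum : ∀ {ψ ψ' : Matrix α α ℂ →ₗ[ℂ] ℂ}, C.IsChar ψ' →
      ∑ g, C.phi ψ g * conj (C.phi ψ' g) =
        ∑ a, ∑ b, (C.idem ψ' * (Z a b)ᵀ * C.idem ψ) b a := by
    intro ψ ψ' hψ'
    have e : ∀ a b, (C.idem ψ' * (Z a b)ᵀ * C.idem ψ) b a =
        ∑ g : G, C.idem ψ (g • a) a * C.idem ψ' b (g • b) := by
      intro a b
      simp only [hZT, Matrix.mul_sum, Matrix.sum_mul, Matrix.sum_apply]
      refine Finset.sum_congr rfl fun g _ => ?_
      simp [Matrix.mul_apply, Matrix.single_apply, ite_and, mul_comm]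
    simp only [e, phi, map_sum, idem_conj hs hψ']
    rw [Finset.sum_congr rfl fun g _ => Finset.sum_mul_sum (κ := α) _ _ _ _, Finset.sum_comm]
    exact Finset.sum_congr rfl fun a _ => Finset.sum_comm
  have hprod : ∀ {ψ ψ' : Matrix α α ℂ →ₗ[ℂ] ℂ}, C.IsChar ψ → C.IsChar ψ' → ∀ a b,
      C.idem ψ' * (Z a b)ᵀ * C.idem ψ =
        (ψ (Z a b)ᵀ * ψ (C.idem ψ')) • C.idem ψ := by
    intro ψ ψ' hψ _ a b
    rw [mul_assoc, hψ.mul_idem hs (C.inv_transpose (hZ a b)), Matrix.mul_smul,
      hψ.mul_idem hs inv_idem, smul_smul]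
  constructor
  · intro h0
    have h0' : χ (C.idem χ') = 0 := by
      by_contra hne
      have e := h.mul_idem hs (inv_idem (χ := χ'))
      rw [C.inv_comm hs inv_idem inv_idem, h'.mul_idem hs inv_idem, h0, zero_smul] at e
      have := congrArg χ e
      rw [map_zero, map_smul, h.idem_self, smul_eq_mul, mul_one] at this
      exact hne this.symm
    rw [hsum h']
    refine Finset.sum_eq_zero fun a _ => Finset.sum_eq_zero fun b _ => ?_
    rw [hprod h h', h0', mul_zero, zero_smul, Matrix.zero_apply]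
  · have htr : (∑ a, C.idem χ a a) ≠ 0 := by
      have e : ∀ a, C.idem χ a a = ((∑ b, Complex.normSq (C.idem χ b a) : ℝ) : ℂ) := by
        intro a
        conv_lhs => rw [← h.idem_mul hs]
        rw [Matrix.mul_apply]
        push_cast
        refine Finset.sum_congr rfl fun b _ => ?_
        rw [Complex.normSq_eq_conj_mul_self, idem_conj hs h]
      simp only [e]
      rw [← Complex.ofReal_sum, Complex.ofReal_ne_zero]
      intro h0
      have hz : C.idem χ = 0 := by
        ext b a
        exact Complex.normSq_eq_zero.1 ((Finset.sum_eq_zero_iff_of_nonneg fun i _ =>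
          Complex.normSq_nonneg _).1 ((Finset.sum_eq_zero_iff_of_nonneg fun i _ =>
            Finset.sum_nonneg fun j _ => Complex.normSq_nonneg _).1 h0 a (Finset.mem_univ a)) b
          (Finset.mem_univ b))
      have := h.idem_self
      rw [hz, map_zero] at this
      exact zero_ne_one this
    have hval : ∀ a b, χ (Z a b)ᵀ * (∑ u, C.idem χ u u) =
        Fintype.card G * C.idem χ a b := by
      intro a b
      have e : ∑ v, ((Z a b)ᵀ * C.idem χ) v v = χ (Z a b)ᵀ * ∑ u, C.idem χ u u := by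
        rw [h.mul_idem hs (C.inv_transpose (hZ a b)), Finset.mul_sum]
        rfl
      rw [← e, hZT]
      simp only [Matrix.sum_mul, Matrix.sum_apply]
      rw [Finset.sum_comm, ← nsmul_eq_mul, ← Finset.card_univ, ← Finset.sum_const]
      refine Finset.sum_congr rfl fun g _ => ?_
      simp [Matrix.mul_apply, Matrix.single_apply, ite_and, inv_idem (χ := χ) g]
    refine mul_right_cancel₀ htr ?_
    rw [hsum h]
    refine (Finset.sum_mul _ _ _).trans ((Finset.sum_congr rfl fun a _ => ?_).trans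
      (Finset.mul_sum _ _ _).symm)
    refine (Finset.sum_mul _ _ _).trans ?_
    calc ∑ b, (C.idem χ * (Z a b)ᵀ * C.idem χ) b a * (∑ u, C.idem χ u u)
        = ∑ b, (Fintype.card G : ℂ) * (C.idem χ a b * C.idem χ b a) := by
          refine Finset.sum_congr rfl fun b _ => ?_
          rw [hprod h h, h.idem_self, mul_one, Matrix.smul_apply, smul_eq_mul, mul_right_comm,
            hval, mul_assoc]
      _ = _ := by rw [← Finset.mul_sum, ← Matrix.mul_apply, h.idem_mul hs]

/-- Bessel's inequality. -/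
theorem bessel {ι : Type*} [Fintype ι] (c : ι → Matrix α α ℂ →ₗ[ℂ] ℂ) (hs : C.Split)
    (hc : ∀ i, C.IsChar (c i)) (hdist : ∀ i j, i ≠ j → c j (C.idem (c i)) = 0) (U : Finset G) :
    ∑ i, Complex.normSq (∑ g ∈ U, C.phi (c i) g) ≤ (Fintype.card G : ℝ) * U.card := by
  set u : G → ℂ := fun g => if g ∈ U then 1 else 0
  set N : ℂ := (Fintype.card G : ℂ) with hN
  have hN0 : N ≠ 0 := by simp [hN, Fintype.card_ne_zero]
  set s : ι → ℂ := fun i => ∑ g ∈ U, C.phi (c i) g
  set w : G → ℂ := fun g => u g - N⁻¹ * ∑ i, s i * conj (C.phi (c i) g)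
  have horth : ∀ i j, ∑ g, C.phi (c i) g * conj (C.phi (c j) g) = if i = j then N else 0 := by
    intro i j
    split_ifs with e
    · subst e; exact (phi_orth hs (hc i) (hc i)).2
    · exact (phi_orth hs (hc i) (hc j)).1 (hdist i j e)
  have hu : ∀ i, ∑ g, u g * C.phi (c i) g = s i := fun i => by simp [u, s, ite_mul]
  have hu2 : ∑ g, u g * conj (u g) = (U.card : ℂ) := by simp [u, Finset.sum_ite]
  have hw : ∑ g, w g * conj (w g) = (U.card : ℂ) - N⁻¹ * ∑ i, s i * conj (s i) := by
    have hN' : conj N = N := by rw [hN, map_natCast]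
    have e1 : ∀ g, w g * conj (w g) = u g * conj (u g) -
        N⁻¹ * (∑ i, conj (s i) * (u g * C.phi (c i) g)) -
        N⁻¹ * (∑ i, s i * (conj (u g) * conj (C.phi (c i) g))) +
        N⁻¹ * N⁻¹ * ∑ i, ∑ j, (s i * conj (s j)) * (C.phi (c j) g * conj (C.phi (c i) g)) := by
      intro g
      simp only [w, map_sub, map_mul, map_inv₀, hN', map_sum, Complex.conj_conj]
      rw [show (∑ i, ∑ j, (s i * conj (s j)) * (C.phi (c j) g * conj (C.phi (c i) g))) =
          (∑ i, s i * conj (C.phi (c i) g)) * ∑ j, conj (s j) * C.phi (c j) g by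
        rw [Finset.sum_mul_sum]
        exact Finset.sum_congr rfl fun i _ => Finset.sum_congr rfl fun j _ => by ring]
      rw [show (∑ i, conj (s i) * (u g * C.phi (c i) g)) =
          u g * ∑ i, conj (s i) * C.phi (c i) g by
        rw [Finset.mul_sum]; exact Finset.sum_congr rfl fun i _ => by ring,
        show (∑ i, s i * (conj (u g) * conj (C.phi (c i) g))) =
          conj (u g) * ∑ i, s i * conj (C.phi (c i) g) by
        rw [Finset.mul_sum]; exact Finset.sum_congr rfl fun i _ => by ring]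
      ring
    have hu' : ∀ i, ∑ g, conj (u g) * conj (C.phi (c i) g) = conj (s i) := fun i => by
      rw [← hu i, map_sum]; simp
    simp only [e1, Finset.sum_add_distrib, Finset.sum_sub_distrib, hu2, ← Finset.mul_sum]
    rw [Finset.sum_comm, Finset.sum_comm (γ := G), Finset.sum_comm (γ := G)]
    simp only [← Finset.mul_sum, hu, hu']
    rw [Finset.sum_congr rfl fun i _ => Finset.sum_comm (γ := G)]
    simp only [← Finset.mul_sum, horth, mul_ite, mul_zero, Finset.sum_ite_eq', Finset.mem_univ,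
      if_true]
    simp only [mul_comm (conj _) (s _), Finset.mul_sum, Finset.sum_mul]
    rw [← sub_eq_zero]
    simp only [← Finset.sum_sub_distrib, ← Finset.sum_add_distrib, sub_eq_zero]
    field_simp
    ring
  have hR : ((∑ g, Complex.normSq (w g) : ℝ) : ℂ) =
      (((U.card : ℝ) - (Fintype.card G : ℝ)⁻¹ * ∑ i, Complex.normSq (s i) : ℝ) : ℂ) := by
    push_cast
    simp only [← Complex.mul_conj]
    exact hw
  have hR' : (0 : ℝ) ≤ (U.card : ℝ) - (Fintype.card G : ℝ)⁻¹ * ∑ i, Complex.normSq (s i) :=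
    Complex.ofReal_inj.1 hR ▸ Finset.sum_nonneg fun g _ => Complex.normSq_nonneg _
  rwa [sub_nonneg, inv_mul_le_iff₀ (by exact_mod_cast Fintype.card_pos)] at hR'

/-- The class function at a power of `x`. -/
theorem phi_xpow (k : ZMod p) :
    C.phi χ (C.x ^ k.val) = C.deg (C.idem χ) + C.mu (C.idem χ) +
      ∑ m ∈ Finset.univ.erase (0 : ZMod p),
        (C.mu (C.idem χ) + C.theta (C.idem χ) m) * ψ (m * k) := by
  have h1 : C.phi χ (C.x ^ k.val) =
      p * (C.blk (C.idem χ) false false (-k) + C.blk (C.idem χ) true true (-k)) := by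
    rw [phi, C.sum_pt]
    simp only [C.xpow_pt, ZMod.natCast_zmod_val, C.apply_pt inv_idem, sub_add_cancel_left,
      Finset.sum_const, Finset.card_univ, ZMod.card, nsmul_eq_mul]
    ring
  have hft : ∀ m, ft (fun y => C.blk (C.idem χ) false false y + C.blk (C.idem χ) true true y) m =
      C.BM (C.idem χ) m false false + C.BM (C.idem χ) m true true := fun m => ft_add _ _ m
  rw [h1, ← ft_inv (fun y => C.blk (C.idem χ) false false y + C.blk (C.idem χ) true true y) (-k),
    ← Finset.add_sum_erase _ _ (Finset.mem_univ (0 : ZMod p))]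
  congr 1
  · rw [hft, (C.BM_zero_symm inv_idem).1, deg, mu]
    simp
  · refine Finset.sum_congr rfl fun m _ => ?_
    rw [hft, theta, mul_neg, neg_neg]
    ring

end CfsgLib.PermSmall.DoublePrime.Frame
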