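import Mathlib

/-!
Fourier transforms on a group of prime order.
-/

set_option autoImplicit false

noncomputable section

namespace CfsgLib.PermSmall.DoublePrime

open scoped Classical ComplexConjugate

variable {p : ℕ} [hp : Fact p.Prime]

/-- The standard character of `ZMod p`. -/
def ψ : AddChar (ZMod p) ℂ := ZMod.stdAddChar

theorem sum_ψ (m : ZMod p) : ∑ y : ZMod p, (ψ (m * y) : ℂ) = if m = 0 then (p : ℂ) else 0 := by
  have h := AddChar.sum_mulShift m (ZMod.isPrimitive_stdAddChar p) (R := ZMod p) (R' := ℂ)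
  simp only [ψ]
  rw [Finset.sum_congr rfl fun y _ => by rw [mul_comm m y]]
  rw [h, ZMod.card]
  split <;> simp

theorem conj_ψ (y : ZMod p) : conj (ψ y : ℂ) = ψ (-y) :=
  (AddChar.map_neg_eq_conj ψ y).symm

/-- The transform. -/
def ft (f : ZMod p → ℂ) (m : ZMod p) : ℂ := ∑ y, f y * ψ (m * y)

theorem ft_add (f g : ZMod p → ℂ) (m : ZMod p) :
    ft (fun y => f y + g y) m = ft f m + ft g m := by
  simp [ft, add_mul, Finset.sum_add_distrib]

theorem ft_sub (f g : ZMod p → ℂ) (m : ZMod p) :
    ft (fun y => f y - g y) m = ft f m - ft g m := by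
  simp [ft, sub_mul, Finset.sum_sub_distrib]

theorem ft_zero' (f : ZMod p → ℂ) : ft f 0 = ∑ y, f y := by simp [ft]

theorem ft_const (c : ℂ) (m : ZMod p) :
    ft (fun _ : ZMod p => c) m = if m = 0 then c * p else 0 := by
  rw [ft, ← Finset.mul_sum, sum_ψ, mul_ite, mul_zero]

theorem ft_single (u m : ZMod p) :
    ft (fun y => if y = u then (1 : ℂ) else 0) m = ψ (m * u) := by
  simp [ft]

theorem ft_comp_neg (f : ZMod p → ℂ) (m : ZMod p) : ft (fun y => f (-y)) m = ft f (-m) := by
  refine Fintype.sum_equiv (Equiv.neg (ZMod p)) _ _ fun y => ?_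
  simp

theorem ft_conj (f : ZMod p → ℂ) (m : ZMod p) :
    ft (fun y => conj (f (-y))) m = conj (ft f m) := by
  rw [ft, ft, map_sum]
  refine Fintype.sum_equiv (Equiv.neg (ZMod p)) _ _ fun y => ?_
  simp [conj_ψ]

theorem ft_comp_mul (f : ZMod p → ℂ) {u : ZMod p} (hu : u ≠ 0) (m : ZMod p) :
    ft (fun y => f (u * y)) m = ft f (m * u⁻¹) := by
  refine Fintype.sum_equiv (Equiv.mulLeft₀ u hu) _ _ fun y => ?_
  show f (u * y) * ψ (m * y) = f (u * y) * ψ (m * u⁻¹ * (u * y))
  rw [show m * u⁻¹ * (u * y) = m * y by field_simp]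

theorem ft_comp_add (f : ZMod p → ℂ) (d m : ZMod p) :
    ft (fun y => f (y + d)) m = ψ (-(m * d)) * ft f m := by
  rw [ft, ft, Finset.mul_sum]
  refine Fintype.sum_equiv (Equiv.addRight d) _ _ fun y => ?_
  simp only [Equiv.coe_addRight]
  rw [mul_add, AddChar.map_add_eq_mul, mul_left_comm, mul_comm (ψ (m * y))]
  rw [← mul_assoc (ψ (-(m * d))), ← AddChar.map_add_eq_mul, neg_add_cancel,
    AddChar.map_zero_eq_one, one_mul]

/-- Inversion. -/
theorem ft_inv (f : ZMod p → ℂ) (y : ZMod p) : ∑ m, ft f m * ψ (-(m * y)) = p * f y := by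
  simp only [ft, Finset.sum_mul]
  rw [Finset.sum_comm]
  rw [Finset.sum_congr rfl fun z _ => show (∑ m, f z * ψ (m * z) * ψ (-(m * y))) =
      f z * ∑ m, ψ ((z - y) * m) by
    rw [Finset.mul_sum]
    refine Finset.sum_congr rfl fun m _ => ?_
    rw [mul_assoc, ← AddChar.map_add_eq_mul]
    congr 2
    ring]
  simp only [sum_ψ, mul_ite, mul_zero, sub_eq_zero, Finset.sum_ite_eq', Finset.mem_univ, if_true]
  ring

theorem ft_injective {f g : ZMod p → ℂ} (h : ∀ m, ft f m = ft g m) : f = g := by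
  funext y
  have h1 := ft_inv f y
  simp only [h, ft_inv g y] at h1
  exact (mul_left_cancel₀ (Nat.cast_ne_zero.2 hp.out.ne_zero) h1).symm

/-- A rational function annihilated by one non-trivial character is constant. -/
theorem rat_const (f : ZMod p → ℚ) {m : ZMod p} (hm : m ≠ 0)
    (h : ft (fun y => (f y : ℂ)) m = 0) (y : ZMod p) : f y = f 0 := by
  have hζ : IsPrimitiveRoot (ψ m : ℂ) p := by
    rw [IsPrimitiveRoot.iff_def]
    refine ⟨by rw [← AddChar.map_nsmul_eq_pow, nsmul_eq_mul, ZMod.natCast_self, zero_mul,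
      AddChar.map_zero_eq_one], fun l hl => ?_⟩
    rw [← AddChar.map_nsmul_eq_pow, nsmul_eq_mul] at hl
    have h2 : ((l : ZMod p) * m) = 0 := ZMod.injective_stdAddChar (by
      rw [AddChar.map_zero_eq_one]; exact hl)
    rw [mul_eq_zero, or_iff_left hm, ZMod.natCast_eq_zero_iff] at h2
    exact h2
  let P : Polynomial ℚ := ∑ z : ZMod p, Polynomial.C (f z) * Polynomial.X ^ z.val
  have hroot : Polynomial.aeval (ψ m : ℂ) P = 0 := by
    rw [← h, ft, map_sum]
    refine Finset.sum_congr rfl fun z _ => ?_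
    rw [map_mul, Polynomial.aeval_C, map_pow, Polynomial.aeval_X, ← AddChar.map_nsmul_eq_pow,
      nsmul_eq_mul, ZMod.natCast_zmod_val, mul_comm m z]
    rfl
  have hdvd : Polynomial.cyclotomic p ℚ ∣ P := by
    rw [Polynomial.cyclotomic_eq_minpoly_rat hζ hp.out.pos]
    exact minpoly.dvd ℚ _ hroot
  obtain ⟨R, hR⟩ := hdvd
  have hdeg : R.natDegree = 0 := by
    rcases eq_or_ne R 0 with rfl | hR0
    · simp
    have hP : P.natDegree ≤ p - 1 :=
      Polynomial.natDegree_sum_le_of_forall_le _ _ fun z _ =>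
        (Polynomial.natDegree_C_mul_X_pow_le _ _).trans (by have := z.val_lt; omega)
    rw [hR, Polynomial.natDegree_mul (Polynomial.cyclotomic_ne_zero _ _) hR0,
      Polynomial.natDegree_cyclotomic, Nat.totient_prime hp.out] at hP
    omega
  obtain ⟨c, rfl⟩ : ∃ c, R = Polynomial.C c := ⟨_, Polynomial.eq_C_of_natDegree_eq_zero hdeg⟩
  have hco : ∀ z : ZMod p, f z = c := by
    intro z
    have h1 : P.coeff z.val = f z := by
      simp only [P, Polynomial.finsetSum_coeff, Polynomial.coeff_C_mul_X_pow]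
      rw [Finset.sum_eq_single z]
      · simp
      · exact fun b _ hb => if_neg fun e => hb (ZMod.val_injective p e).symm
      · exact fun hz => absurd (Finset.mem_univ z) hz
    rw [← h1, hR, Polynomial.coeff_mul_C, Polynomial.cyclotomic_prime, Polynomial.finsetSum_coeff]
    simp [Polynomial.coeff_X_pow, z.val_lt]
  rw [hco, hco]

theorem int_const (f : ZMod p → ℤ) {m : ZMod p} (hm : m ≠ 0)
    (h : ft (fun y => (f y : ℂ)) m = 0) (y : ZMod p) : f y = f 0 := by
  have := rat_const (fun y => (f y : ℚ)) hm (by simpa using h) y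
  exact_mod_cast this

/-- An integral function taking an integral value at one non-trivial character is constant away from
the origin. -/
theorem int_value (f : ZMod p → ℤ) {m : ZMod p} (hm : m ≠ 0) {c : ℤ}
    (h : ft (fun y => (f y : ℂ)) m = c) (y : ZMod p) (hy : y ≠ 0) : f y = f 0 - c := by
  have h1 := int_const (fun y => f y - if y = 0 then c else 0) hm (by
    push_cast
    rw [ft_sub, h, sub_eq_zero]
    simp [ft]) y
  simpa [hy] using h1

/-- An integral function takes the same integral value at every non-trivial character. -/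
theorem int_value_eq (f : ZMod p → ℤ) {m m' : ZMod p} (hm : m ≠ 0) (hm' : m' ≠ 0) {c : ℤ}
    (h : ft (fun y => (f y : ℂ)) m = c) : ft (fun y => (f y : ℂ)) m' = c := by
  have h1 : (fun y => (f y : ℂ)) =
      fun y => ((f 0 - c : ℤ) : ℂ) + (c : ℂ) * (if y = 0 then (1 : ℂ) else 0) := by
    funext y
    by_cases hy : y = 0
    · simp [hy]
    · simp [hy, int_value f hm h y hy]
  rw [h1, ft_add, ft_const, if_neg hm', zero_add]
  simp [ft]

/-- Coincidence of two values of the transform of an integral function propagates. -/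
theorem int_galois (f : ZMod p → ℤ) {u m : ZMod p} (hu : u ≠ 0) (hm : m ≠ 0)
    (h : ft (fun y => (f y : ℂ)) (m * u) = ft (fun y => (f y : ℂ)) m) (y : ZMod p) :
    f (u * y) = f y := by
  have h1 := int_const (fun y => f (u⁻¹ * y) - f y) hm (by
    push_cast
    rw [ft_sub, ft_comp_mul (fun y => (f y : ℂ)) (inv_ne_zero hu), inv_inv, h, sub_self]) (u * y)
  simp [hu] at h1
  linarith

end CfsgLib.PermSmall.DoublePrime
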