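import Cfsg.Agent.Lib.PermSmall.DoublePrime.Rank
import Cfsg.Agent.S0713

/-!
Wielandt's theorem on primitive groups of degree `2p`.
-/

set_option autoImplicit false
set_option linter.unusedSectionVars false

noncomputable section

namespace CfsgLib.PermSmall.DoublePrime.Frame

open MulAction
open scoped Classical ComplexConjugate Matrix

variable {α : Type*} [Fintype α] [DecidableEq α] {G : Subgroup (Equiv.Perm α)} {p : ℕ}
  [hp : Fact p.Prime] (C : Frame G p)

/-- An element normalising the subgroup generated by `x` acts affinely on each of its orbits. -/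
theorem affine {h : G} {s : ZMod p} (hs : s ≠ 0) (hh : h * C.x * h⁻¹ = C.x ^ s.val) :
    ∃ (sw : Bool) (c : Bool → ZMod p),
      ∀ i y, h • C.pt i y = C.pt (xor sw i) (s * y + c i) := by
  have hgen : ∀ i y, h • C.pt i y = C.pt (C.e (h • C.pt i 0)).1 (s * y + (C.e (h • C.pt i 0)).2) := by
    intro i y
    obtain ⟨j, z, hjz⟩ := C.exists_pt (h • C.pt i 0)
    rw [hjz, show C.e (C.pt j z) = (j, z) by simp [pt]]
    have e : C.pt i y = C.x ^ y.val • C.pt i 0 := by
      rw [C.xpow_pt, ZMod.natCast_zmod_val, zero_add]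
    have e2 : h * C.x ^ y.val = (C.x ^ s.val) ^ y.val * h := by
      rw [← hh, conj_pow]; group
    rw [e, ← mul_smul, e2, mul_smul, hjz, ← pow_mul, C.xpow_pt]
    push_cast
    rw [ZMod.natCast_zmod_val, ZMod.natCast_zmod_val, add_comm]
  set π : Bool → Bool := fun i => (C.e (h • C.pt i 0)).1
  set c : Bool → ZMod p := fun i => (C.e (h • C.pt i 0)).2
  have hπ : π false ≠ π true := by
    intro e
    have h1 := hgen false ((c true - c false) / s)
    have h2 := hgen true 0
    rw [show s * ((c true - c false) / s) + (C.e (h • C.pt false 0)).2 = c true by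
      show s * ((c true - c false) / s) + c false = c true
      field_simp
      ring, show (C.e (h • C.pt false 0)).1 = π true from e] at h1
    rw [mul_zero, zero_add] at h2
    exact Bool.false_ne_true (C.pt_inj.1 (smul_left_cancel h (h1.trans h2.symm))).1
  refine ⟨π false, c, fun i y => ?_⟩
  rw [hgen i y]
  show C.pt (π i) (s * y + c i) = _
  congr 1
  cases i
  · simp
  · cases hf : π false <;> cases ht : π true <;> simp_all

theorem orb_map {h : G} {s : ZMod p} {sw : Bool} {c : Bool → ZMod p}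
    (hh : ∀ i y, h • C.pt i y = C.pt (xor sw i) (s * y + c i)) (i j : Bool) (y : ZMod p) :
    C.orb (xor sw i) (xor sw j) (s * y + (c j - c i)) = C.orb i j y := by
  conv_rhs => rw [orb, ← C.rel_smul h, hh, hh, C.rel_pt]
  congr 1
  ring

theorem orb_flip (i j : Bool) (y : ZMod p) : C.rel (C.pt j y) (C.pt i 0) = C.orb j i (-y) := by
  rw [C.rel_pt, zero_sub]

variable [IsPreprimitive G α]

/-- With `-1` among the multipliers all orbitals are symmetric. -/
theorem symm_of_neg_one (hs : C.Split) (h : (-1 : (ZMod p)ˣ) ∈ C.mult) (i j : Bool) (y : ZMod p) :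
    C.orb j i (-y) = C.orb i j y := by
  set O := C.orb i j y
  set D := C.adj O - (C.adj O)ᵀ with hD
  have hDi : C.Inv D := C.inv_sub (C.inv_adj O) (C.inv_transpose (C.inv_adj O))
  have hmu : C.mu D = 0 := by
    have e : C.mu D = C.mu (C.adj O) - C.mu (C.adj O)ᵀ := map_sub C.muL _ _
    rw [e, C.mu_transpose (C.inv_adj O), sub_self]
  have hzero : D = 0 := by
    refine C.BM_injective hDi (fun g a b => rfl) fun m => ?_
    have h0 : C.BM 0 m = 0 := by
      ext a b; simp [BM, blk, ft]
    rw [h0]
    rcases eq_or_ne m 0 with rfl | hm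
    · obtain ⟨e1, e2⟩ := C.BM_zero_symm (C.inv_adj O)
      ext a b
      rw [hD, C.BM_sub, C.BM_transpose (C.inv_adj O), neg_zero]
      cases a <;> cases b <;> simp [e2]
    · refine C.eq_zero_of hs hDi hm hmu ?_
      rw [theta, hmu, sub_zero, hD, C.BM_sub, C.BM_transpose (C.inv_adj O)]
      simp only [Matrix.sub_apply, Matrix.transpose_apply]
      have e : ft (fun z => (C.trFun O z : ℂ)) (-m) = ft (fun z => (C.trFun O z : ℂ)) m := by
        rw [← ft_comp_neg]
        refine congrArg (fun f => ft f m) (funext fun z => ?_)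
        have := h O z
        rw [Units.val_neg, Units.val_one, neg_one_mul] at this
        rw [this]
      rw [C.ft_trFun, C.ft_trFun] at e
      linear_combination -e
  have h1 : D (C.pt i 0) (C.pt j y) = 0 := by rw [hzero]; rfl
  simp only [hD, Matrix.sub_apply, Matrix.transpose_apply, adj, Matrix.of_apply] at h1
  rw [if_pos (show C.rel (C.pt i 0) (C.pt j y) = O from rfl), C.orb_flip] at h1
  by_contra hne
  rw [if_neg hne, sub_zero] at h1
  exact one_ne_zero h1

/-- The multipliers fixing one orbital function. -/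
def fixMult (f : ZMod p → C.Orb) : Subgroup (ZMod p)ˣ where
  carrier := {u | ∀ y, f ((u : ZMod p) * y) = f y}
  one_mem' := fun y => by simp
  mul_mem' := fun {u w} hu hw y => by rw [Units.val_mul, mul_assoc, hu, hw]
  inv_mem' := fun {u} hu y => by
    have := hu (((u⁻¹ : (ZMod p)ˣ) : ZMod p) * y)
    rw [← mul_assoc, ← Units.val_mul, mul_inv_cancel, Units.val_one, one_mul] at this
    exact this.symm

/-- The last case: `G` would contain an element permuting the two orbits and squaring `x`'s
multiplier to `-1`. -/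
theorem false_of_four (hs : C.Split) {σ : (ZMod p)ˣ} {u d : ZMod p} {O : C.Orb}
    (hσ : (σ : ZMod p) * σ = -1) (hp5 : p ≠ 5) (hp2' : p ≠ 2) (hu : u ≠ 0) (hmu : C.muZ O = 1)
    (hff : ∀ y, C.orb false false y = O ↔ y = u ∨ y = -u)
    (htt : ∀ y, C.orb true true y = O ↔ y = (σ : ZMod p) * u ∨ y = -((σ : ZMod p) * u))
    (hft : ∀ y, C.orb false true y = O ↔ y = d)
    (htf : ∀ y, C.orb true false y = O ↔ y = -d) : False := by
  set s : ZMod p := (σ : ZMod p) with hsdef
  have hs0 : s ≠ 0 := σ.ne_zero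
  have hp2 : (2 : ZMod p) ≠ 0 := by
    intro h
    have h2 : p = 2 := (Nat.prime_dvd_prime_iff_eq hp.out Nat.prime_two).1
      ((ZMod.natCast_eq_zero_iff 2 p).1 (by exact_mod_cast h))
    exact hp2' h2
  have h5 : (5 : ZMod p) ≠ 0 := by
    intro h
    exact hp5 ((Nat.prime_dvd_prime_iff_eq hp.out (by norm_num)).1
      ((ZMod.natCast_eq_zero_iff 5 p).1 (by exact_mod_cast h)))
  have hne : ∀ w : ZMod p, w ≠ 0 → w ≠ -w := fun w hw e =>
    hw ((mul_eq_zero.1 (show (2 : ZMod p) * w = 0 by linear_combination e)).resolve_left hp2)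
  have hpair : ∀ w : ZMod p, w ≠ 0 → ∀ (i : Bool),
      (∀ y, C.orb i i y = O ↔ y = w ∨ y = -w) →
      C.BM (C.adj O) 1 i i = ψ w + ψ (-w) := by
    intro w hw i hi
    have e : (fun y => C.blk (C.adj O) i i y) =
        fun y => (if y = w then (1 : ℂ) else 0) + (if y = -w then 1 else 0) := by
      funext y
      rw [C.blk_adj]
      by_cases h1 : y = w
      · rw [if_pos ((hi y).2 (Or.inl h1)), if_pos h1, if_neg (h1 ▸ hne w hw), add_zero]
      · by_cases h2 : y = -w
        · rw [if_pos ((hi y).2 (Or.inr h2)), if_neg h1, if_pos h2, zero_add]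
        · rw [if_neg fun h => ((hi y).1 h).elim h1 h2, if_neg h1, if_neg h2, add_zero]
    show ft (fun y => C.blk (C.adj O) i i y) 1 = _
    rw [e, ft_add, ft_single, ft_single, one_mul, one_mul]
  have hsingle : ∀ (i j : Bool) (w : ZMod p), (∀ y, C.orb i j y = O ↔ y = w) →
      C.BM (C.adj O) 1 i j = ψ w := by
    intro i j w hw
    show ft (fun y => C.blk (C.adj O) i j y) 1 = _
    rw [show (fun y => C.blk (C.adj O) i j y) = fun y => if y = w then (1 : ℂ) else 0 from
      funext fun y => by simp only [C.blk_adj, hw], ft_single, one_mul]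
  have hdet := C.det_BM hs (C.inv_adj O) (m := 1) one_ne_zero
  rw [theta, C.mu_adj', hmu, hsingle _ _ _ hft, hsingle _ _ _ htf, hpair u hu false hff,
    hpair (s * u) (mul_ne_zero hs0 hu) true htt, ← AddChar.map_add_eq_mul, add_neg_cancel,
    AddChar.map_zero_eq_one, Int.cast_one] at hdet
  set f : ZMod p → ℤ := fun y =>
    (if y = u + s * u then 1 else 0) + (if y = u + -(s * u) then 1 else 0) +
      (if y = -u + s * u then 1 else 0) + (if y = -u + -(s * u) then 1 else 0) -
      (if y = u then 1 else 0) - (if y = -u then 1 else 0) -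
      (if y = s * u then 1 else 0) - (if y = -(s * u) then 1 else 0)
  have hft0 : ft (fun y => (f y : ℂ)) 1 = 0 := by
    simp only [f]
    push_cast
    simp only [ft_sub, ft_add, ft_single, one_mul, AddChar.map_add_eq_mul]
    linear_combination hdet
  have hc := int_const f one_ne_zero hft0
  have k1 : (1 : ZMod p) + s ≠ 0 := fun e => hp2 (by linear_combination (1 - s) * e + hσ)
  have k2 : (1 : ZMod p) - s ≠ 0 := fun e => hp2 (by linear_combination (1 + s) * e + hσ)
  have hf0 : f 0 = 0 := by
    have a1 : u + s * u ≠ 0 := fun e => mul_ne_zero k1 hu (by linear_combination e)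
    have a2 : u + -(s * u) ≠ 0 := fun e => mul_ne_zero k2 hu (by linear_combination e)
    have a3 : -u + s * u ≠ 0 := fun e => mul_ne_zero k2 hu (by linear_combination -e)
    have a4 : -u + -(s * u) ≠ 0 := fun e => mul_ne_zero k1 hu (by linear_combination -e)
    have a5 : s * u ≠ 0 := mul_ne_zero hs0 hu
    simp [f, Ne.symm a1, Ne.symm a2, Ne.symm a3, Ne.symm a4, Ne.symm a5, Ne.symm hu,
      eq_comm (a := (0 : ZMod p)), a5, hu]
  have h1 := hc (u + s * u)
  rw [hf0] at h1
  have c1 : u + s * u ≠ u := fun e => mul_ne_zero hs0 hu (by linear_combination e)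
  have c2 : u + s * u ≠ s * u := fun e => hu (by linear_combination e)
  have c3 : u + s * u ≠ -u := by
    intro e
    refine h5 ((mul_eq_zero.1 (show (5 : ZMod p) * u = 0 by
      linear_combination (2 - s) * e + u * hσ)).resolve_right hu)
  have c4 : u + s * u ≠ -(s * u) := by
    intro e
    refine h5 ((mul_eq_zero.1 (show (5 : ZMod p) * u = 0 by
      linear_combination (1 - 2 * s) * e + 4 * u * hσ)).resolve_right hu)
  simp only [f, if_true, if_neg c1, if_neg c2, if_neg c3, if_neg c4, sub_zero] at h1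
  have : (0 : ℤ) < 1 + (if u + s * u = u + -(s * u) then 1 else 0) +
      (if u + s * u = -u + s * u then 1 else 0) + (if u + s * u = -u + -(s * u) then 1 else 0) := by
    split_ifs <;> norm_num
  omega

/-- The multipliers are all units. -/
theorem mult_eq_top (hs : C.Split)
    (hfree : ∀ g : G, g ^ p = 1 → ∀ a : α, g • a = a → g = 1) : C.mult = ⊤ := by
  by_contra hne
  by_cases hswap : ∃ (τ : G) (c : Bool → ZMod p), ∀ i y, τ • C.pt i y = C.pt (!i) (y + c i)
  · obtain ⟨τ, c, hτ⟩ := hswap
    refine C.false_of_diag hs hne (C.orb_invariant_of_two fun y => ?_)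
    have := C.orb_map (h := τ) (s := 1) (sw := true) (c := c)
      (fun i z => by rw [hτ, one_mul, Bool.true_xor]) false false y
    simpa using this
  simp only [not_exists] at hswap
  -- the centraliser of `x`
  have hcomm : ∀ g : G, g * C.x * g⁻¹ = C.x → g ∈ Subgroup.zpowers C.x := by
    intro g hg
    obtain ⟨sw, c, hc⟩ := C.affine (h := g) (s := 1) one_ne_zero
      (by rw [ZMod.val_one, pow_one]; exact hg)
    cases sw
    · set g' := C.x ^ (-c false).val * g with hg'
      have h1 : ∀ i y, g' • C.pt i y = C.pt i (y + (c i - c false)) := fun i y => by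
        rw [hg', mul_smul, hc, C.xpow_pt, ZMod.natCast_zmod_val, Bool.false_xor]
        congr 1
        ring
      have h2 : ∀ n : ℕ, ∀ i y, (g' ^ n) • C.pt i y = C.pt i (y + n * (c i - c false)) := by
        intro n
        induction n with
        | zero => simp
        | succ n ih =>
          intro i y
          rw [pow_succ', mul_smul, ih, h1]
          congr 1
          push_cast
          ring
      have h3 : g' ^ p = 1 := by
        refine Subtype.ext (Equiv.ext fun a => ?_)
        obtain ⟨i, y, rfl⟩ := C.exists_pt a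
        have := h2 p i y
        rw [ZMod.natCast_self, zero_mul, add_zero] at this
        exact this
      have h4 := hfree g' h3 (C.pt false 0) (by rw [h1]; simp)
      rw [hg', mul_eq_one_iff_eq_inv'] at h4
      rw [h4]
      exact inv_mem (pow_mem (Subgroup.mem_zpowers _) _)
    · exact absurd (fun i y => by rw [hc, one_mul, Bool.true_xor]) (hswap g c)
  have hcent : Nat.card (Subgroup.centralizer ({C.x} : Set G)) = p := by
    have e : Subgroup.centralizer ({C.x} : Set G) = Subgroup.zpowers C.x := by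
      refine le_antisymm (fun g hg => hcomm g ?_) ?_
      · rw [Subgroup.mem_centralizer_singleton_iff] at hg
        rw [hg, mul_inv_cancel_right]
      · rw [Subgroup.zpowers_le, Subgroup.mem_centralizer_singleton_iff]
    rw [e, Nat.card_zpowers, orderOf_eq_prime C.x_pow_p C.gram_x_ne]
  obtain ⟨⟨σ, hσ⟩, hgen⟩ := IsCyclic.exists_generator (α := C.mult)
  have hgen' : ∀ S : Subgroup (ZMod p)ˣ, σ ∈ S → C.mult ≤ S := by
    intro S hS u hu
    obtain ⟨k, hk⟩ := Subgroup.mem_zpowers_iff.1 (hgen ⟨u, hu⟩)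
    have := congrArg Subtype.val hk
    simp only [SubgroupClass.coe_zpow] at this
    rw [← this]
    exact zpow_mem hS k
  obtain ⟨h, hh⟩ := C.exists_conj hs hne hcent hσ
  obtain ⟨sw, c, hc⟩ := C.affine σ.ne_zero hh
  cases sw
  · refine C.false_of_diag hs hne fun u hu y => hgen' (C.fixMult (C.orb false false)) (fun z => ?_) hu y
    simpa using C.orb_map hc false false z
  -- `h` exchanges the two orbits
  have hiter : ∀ n : ℕ, ∃ c' : Bool → ZMod p, ∀ i y,
      (h ^ n) • C.pt i y = C.pt (xor (decide (Odd n)) i) ((σ : ZMod p) ^ n * y + c' i) := by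
    intro n
    induction n with
    | zero => exact ⟨fun _ => 0, fun i y => by simp⟩
    | succ n ih =>
      obtain ⟨c', hc'⟩ := ih
      refine ⟨fun i => (σ : ZMod p) * c' i + c (xor (decide (Odd n)) i), fun i y => ?_⟩
      rw [pow_succ', mul_smul, hc', hc]
      congr 1
      · rw [← Bool.xor_assoc]
        congr 1
        by_cases hn : Odd n <;> simp [hn, Nat.odd_add_one]
      · ring
  set f := orderOf σ with hf
  have hσf : (σ : ZMod p) ^ f = 1 := by
    rw [← Units.val_pow_eq_pow_val, pow_orderOf_eq_one, Units.val_one]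
  rcases Nat.even_or_odd f with ⟨m, hm⟩ | hodd
  swap
  · obtain ⟨c', hc'⟩ := hiter f
    refine absurd (fun i y => ?_) (hswap (h ^ f) c')
    rw [hc' i y, hσf, one_mul, decide_eq_true hodd, Bool.true_xor]
  have hfpos : 0 < f := orderOf_pos σ
  have hm0 : m ≠ 0 := by omega
  have hσm : (σ : ZMod p) ^ m = -1 := by
    have h1 : ((σ : ZMod p) ^ m) * (σ : ZMod p) ^ m = 1 := by rw [← pow_add, ← hm, hσf]
    rcases mul_self_eq_one_iff.1 h1 with e | e
    · exfalso
      have h2 : σ ^ m = 1 := Units.ext (by rw [Units.val_pow_eq_pow_val, e, Units.val_one])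
      have := Nat.le_of_dvd (by omega) (orderOf_dvd_of_pow_eq_one h2)
      omega
    · exact e
  have hneg : (-1 : (ZMod p)ˣ) ∈ C.mult := by
    have e : (-1 : (ZMod p)ˣ) = σ ^ m := Units.ext (by
      rw [Units.val_pow_eq_pow_val, hσm, Units.val_neg, Units.val_one])
    rw [e]
    exact pow_mem hσ m
  have hsym := C.symm_of_neg_one hs hneg
  rcases Nat.even_or_odd m with hme | hmo
  swap
  · obtain ⟨c', hc'⟩ := hiter m
    refine C.false_of_diag hs hne (C.orb_invariant_of_two fun y => ?_)
    rw [decide_eq_true hmo, hσm] at hc'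
    have := C.orb_map hc' false false (-y)
    rw [hsym false false y] at this
    simpa using this
  set δ := c true - c false with hδ
  have hσ1 : (1 : ZMod p) + (σ : ZMod p) ≠ 0 := by
    intro e
    have hv : (σ : ZMod p) = -1 := by linear_combination e
    rw [hv, hme.neg_one_pow] at hσm
    have h2 : σ ^ m = 1 := Units.ext (by
      rw [Units.val_pow_eq_pow_val, hv, hme.neg_one_pow, Units.val_one])
    have := Nat.le_of_dvd (by omega) (orderOf_dvd_of_pow_eq_one h2)
    omega
  set d : ZMod p := -δ / (1 + (σ : ZMod p)) with hd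
  have hdeq : d * (1 + (σ : ZMod p)) = -δ := div_mul_cancel₀ _ hσ1
  set bs : ZMod p → C.Orb := fun w => C.orb false true (w + d) with hbs
  have hbσ : ∀ w, bs (-(σ : ZMod p) * w) = bs w := by
    intro w
    have h1 := C.orb_map hc false true (w + d)
    simp only [Bool.true_xor, Bool.not_false, Bool.not_true] at h1
    rw [← hsym true false] at h1
    simp only [hbs]
    rw [← h1]
    congr 1
    linear_combination hdeq
  have hbinv : ∀ u ∈ C.mult, ∀ w, bs ((u : ZMod p) * w) = bs w := by
    intro u hu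
    refine hgen' (C.fixMult bs) ?_ hu
    have h1 : (-σ) ∈ C.fixMult bs := fun w => by rw [Units.val_neg]; exact hbσ w
    have h2 : (-σ) ^ m = -1 := Units.ext (by
      rw [Units.val_pow_eq_pow_val, Units.val_neg, hme.neg_pow, hσm, Units.val_neg, Units.val_one])
    have h3 := mul_mem (h2 ▸ pow_mem h1 m : (-1 : (ZMod p)ˣ) ∈ C.fixMult bs) h1
    simpa using h3
  -- each orbital meets the off-diagonal block in one class
  have hcnt := fun O hO => C.cnt_pos (C.split_lt hs) C.sum_muZ_sq (O := O) hO
  set g : Option C.Cls → {O : C.Orb // O ≠ C.base} := fun o =>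
    ⟨bs (o.elim 0 fun q => ((q.out : (ZMod p)ˣ) : ZMod p)), fun e =>
      Bool.false_ne_true (C.orb_eq_base.1 e).1⟩ with hg
  have hgsurj : Function.Surjective g := by
    rintro ⟨O, hO⟩
    obtain ⟨y, hy⟩ := C.exists_orb (hcnt O hO).2
    rcases eq_or_ne (y - d) 0 with e | e
    · exact ⟨none, Subtype.ext (by simp [hg, hbs, ← hy, sub_eq_zero.1 e])⟩
    · refine ⟨some (QuotientGroup.mk (Units.mk0 _ e)), Subtype.ext ?_⟩
      obtain ⟨w, hw⟩ := QuotientGroup.mk_out_eq_mul C.mult (Units.mk0 (y - d) e)
      show bs (((QuotientGroup.mk (Units.mk0 _ e) : C.Cls).out : (ZMod p)ˣ) : ZMod p) = O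
      rw [hw, mul_comm, Units.val_mul, hbinv w w.2, Units.val_mk0]
      simp [hbs, hy]
  have hginj : Function.Injective g := by
    refine ((Fintype.bijective_iff_surjective_and_card g).2 ⟨hgsurj, ?_⟩).1
    refine le_antisymm ?_ (Fintype.card_le_of_surjective g hgsurj)
    rw [Fintype.card_option, Fintype.card_subtype_compl, Fintype.card_subtype_eq]
    have := C.card_orb_ge hs hne
    omega
  set O := bs 0 with hO
  have hOne : O ≠ C.base := (g none).2
  have hb0 : ∀ w, bs w = O ↔ w = 0 := by
    refine fun w => ⟨fun e => ?_, fun e => by rw [e]⟩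
    by_contra hw
    have h1 : g (some (QuotientGroup.mk (Units.mk0 w hw))) = g none := by
      apply Subtype.ext
      obtain ⟨v, hv⟩ := QuotientGroup.mk_out_eq_mul C.mult (Units.mk0 w hw)
      show bs (((QuotientGroup.mk (Units.mk0 w hw) : C.Cls).out : (ZMod p)ˣ) : ZMod p) = bs 0
      rw [hv, mul_comm, Units.val_mul, hbinv v v.2, Units.val_mk0]
      exact e
    exact absurd (hginj h1) (by simp)
  have hft : ∀ y, C.orb false true y = O ↔ y = d := fun y => by
    rw [show C.orb false true y = bs (y - d) by simp [hbs], hb0, sub_eq_zero]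
  have htf : ∀ y, C.orb true false y = O ↔ y = -d := fun y => by
    rw [← hsym true false y, hft, neg_eq_iff_eq_neg]
  have hcft : C.cnt false true O = 1 := by
    rw [cnt, Finset.card_eq_one]
    exact ⟨d, Finset.ext fun y => by simpa [orb] using hft y⟩
  set U : Finset (ZMod p) := Finset.univ.filter fun y => C.orb false false y = O with hU
  have hUcard : U.card = C.cnt false false O := rfl
  have hUle : U.card ≤ 3 := by
    by_contra hgt
    have hterm : (C.muZ O : ℚ) ^ 2 / (C.size O : ℚ) ≤ 1 := by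
      have h1 := Finset.add_le_sum (f := fun O => (C.muZ O : ℚ) ^ 2 / (C.size O : ℚ))
        (fun i _ => div_nonneg (sq_nonneg _) (Nat.cast_nonneg _)) (Finset.mem_univ O)
        (Finset.mem_univ C.base) hOne
      obtain ⟨b1, b2⟩ := C.cnt_base
      rw [C.sum_muZ_sq, hs.1, show (C.muZ C.base : ℚ) ^ 2 / (C.size C.base : ℚ) = 1 by
        simp [muZ, C.size_eq, b1, b2]] at h1
      push_cast at h1
      rw [mul_div_assoc, div_self (by exact_mod_cast Fintype.card_ne_zero), mul_one] at h1
      linarith
    rw [div_le_one (by exact_mod_cast C.size_pos O)] at hterm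
    have h2 : (C.muZ O) ^ 2 ≤ (C.size O : ℤ) := by exact_mod_cast hterm
    rw [muZ, C.size_eq, hcft, ← hUcard] at h2
    push_cast at h2
    have h4 : (4 : ℤ) ≤ (U.card : ℤ) := by exact_mod_cast (by omega : 4 ≤ U.card)
    nlinarith
  obtain ⟨u, hu⟩ : U.Nonempty := Finset.card_pos.1 (hUcard ▸ (hcnt O hOne).1)
  have huO : C.orb false false u = O := (Finset.mem_filter.1 hu).2
  have hu0 : u ≠ 0 := fun e => hOne (by rw [← huO, C.orb_eq_base]; exact ⟨rfl, e⟩)
  have hp2 : p ≠ 2 := by
    intro e
    subst e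
    have hd2 : f ∣ Fintype.card (ZMod 2)ˣ := orderOf_dvd_card
    rw [ZMod.card_units, Nat.dvd_one] at hd2
    omega
  have hne2 : ∀ w : ZMod p, w ≠ 0 → w ≠ -w := fun w hw e => by
    have h2 : (2 : ZMod p) = 0 :=
      (mul_eq_zero.1 (show (2 : ZMod p) * w = 0 by linear_combination e)).resolve_right hw
    exact hp2 ((Nat.prime_dvd_prime_iff_eq hp.out Nat.prime_two).1
      ((ZMod.natCast_eq_zero_iff 2 p).1 (by exact_mod_cast h2)))
  have hUneg : ∀ y, y ∈ U → -y ∈ U := fun y hy => by
    simp only [hU, Finset.mem_filter, Finset.mem_univ, true_and] at hy ⊢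
    rw [hsym false false y]; exact hy
  have hUeq : U = {u, -u} := by
    refine (Finset.eq_of_subset_of_card_le ?_ ?_).symm
    · intro y hy
      simp only [Finset.mem_insert, Finset.mem_singleton] at hy
      rcases hy with rfl | rfl
      exacts [hu, hUneg _ hu]
    · rw [Finset.card_pair (hne2 u hu0)]
      by_contra hgt
      obtain ⟨w, hw, hwne⟩ : ∃ w ∈ U, w ∉ ({u, -u} : Finset (ZMod p)) := by
        by_contra hall
        simp only [not_exists, not_and, not_not] at hall
        have := Finset.card_le_card (show U ⊆ {u, -u} from hall)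
        rw [Finset.card_pair (hne2 u hu0)] at this
        omega
      simp only [Finset.mem_insert, Finset.mem_singleton, not_or] at hwne
      have hw0 : w ≠ 0 := fun e => hOne (by
        rw [← (Finset.mem_filter.1 hw).2, C.orb_eq_base]; exact ⟨rfl, e⟩)
      have h4 : ({u, -u, w, -w} : Finset (ZMod p)).card = 4 := by
        rw [Finset.card_insert_of_notMem, Finset.card_insert_of_notMem,
          Finset.card_pair (hne2 w hw0)]
        · simp only [Finset.mem_insert, Finset.mem_singleton, not_or, neg_inj]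
          exact ⟨fun e => hwne.2 e.symm, fun e => hwne.1 e.symm⟩
        · simp only [Finset.mem_insert, Finset.mem_singleton, not_or]
          exact ⟨hne2 u hu0, fun e => hwne.1 e.symm, fun e => hwne.2 (by rw [e, neg_neg])⟩
      have h5 := Finset.card_le_card (show ({u, -u, w, -w} : Finset (ZMod p)) ⊆ U by
        intro y hy
        simp only [Finset.mem_insert, Finset.mem_singleton] at hy
        rcases hy with rfl | rfl | rfl | rfl
        exacts [hu, hUneg _ hu, hw, hUneg _ hw])
      omega
  have hff : ∀ y, C.orb false false y = O ↔ y = u ∨ y = -u := fun y => by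
    have h1 := Finset.ext_iff.1 hUeq y
    simpa [hU] using h1
  have htt0 : ∀ y, C.orb true true ((σ : ZMod p) * y) = C.orb false false y := fun y => by
    simpa using C.orb_map hc false false y
  have hff0 : ∀ y, C.orb false false ((σ : ZMod p) * y) = C.orb true true y := fun y => by
    simpa using C.orb_map hc true true y
  have hss : (σ : ZMod p) * σ = -1 := by
    rcases (hff ((σ : ZMod p) * ((σ : ZMod p) * u))).1 (by rw [hff0, htt0, huO]) with e | e
    · exfalso
      have h1 : (σ : ZMod p) * σ = 1 :=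
        mul_right_cancel₀ hu0 (by rw [mul_assoc, e, one_mul])
      have h2 : σ ^ 2 = 1 := Units.ext (by rw [Units.val_pow_eq_pow_val, pow_two, h1, Units.val_one])
      have := Nat.le_of_dvd two_pos (orderOf_dvd_of_pow_eq_one h2)
      obtain ⟨j, hj⟩ := hme
      omega
    · exact mul_right_cancel₀ hu0 (by rw [mul_assoc, e, neg_one_mul])
  have hfle : f ≤ Fintype.card C.mult := by
    rw [hf, ← Nat.card_eq_fintype_card]
    exact Nat.le_of_dvd Nat.card_pos (Subgroup.orderOf_dvd_natCard C.mult hσ)
  have hp5 : p ≠ 5 := by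
    intro e
    have h1 := C.card_bound hne
    obtain ⟨j, hj⟩ := hme
    omega
  have hmu : C.muZ O = 1 := by
    rw [muZ, hcft, ← hUcard, hUeq, Finset.card_pair (hne2 u hu0)]
    norm_num
  refine C.false_of_four hs hss hp5 hp2 hu0 hmu hff (fun y => ?_) hft htf
  obtain ⟨z, rfl⟩ : ∃ z, y = (σ : ZMod p) * z := ⟨(σ : ZMod p)⁻¹ * y, by
    rw [← mul_assoc, mul_inv_cancel₀ σ.ne_zero, one_mul]⟩
  rw [htt0, hff, mul_right_inj' σ.ne_zero, ← mul_neg, mul_right_inj' σ.ne_zero]

/-- The parameters. -/
theorem params (hs : C.Split) (htop : C.mult = ⊤) (h2 : ¬ IsMultiplyPretransitive G α 2) :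
    Fintype.card C.Orb = 3 ∧ ∃ a : ℕ, 0 < a ∧ p = 2 * a ^ 2 + 2 * a + 1 ∧
      ∀ O, O ≠ C.base → C.size O = a * (2 * a + 1) ∨ C.size O = (a + 1) * (2 * a + 1) := by
  have hcnt := fun O hO => C.cnt_pos (C.split_lt hs) C.sum_muZ_sq (O := O) hO
  have hm1 : ∀ O y, y ≠ 0 → C.trFun O y = C.trFun O 1 := fun O y hy => by
    have h := (htop ▸ Subgroup.mem_top (Units.mk0 y hy) : Units.mk0 y hy ∈ C.mult) O 1
    rwa [Units.val_mk0, mul_one] at h
  have hbase1 : C.trFun C.base 1 = 0 := by
    simp [trFun, C.orb_eq_base]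
  have hpos : ∀ O, O ≠ C.base → 1 ≤ C.trFun O 1 := by
    intro O hO
    obtain ⟨y, hy⟩ := C.exists_orb (hcnt O hO).1
    have hy0 : y ≠ 0 := fun e => hO (by rw [← hy, C.orb_eq_base]; exact ⟨rfl, e⟩)
    rw [← hm1 O y hy0, trFun, if_pos hy]
    split <;> norm_num
  have hsum : ∑ O ∈ Finset.univ.erase C.base, C.trFun O 1 = 2 := by
    have h := C.sum_trFun 1
    rw [← Finset.add_sum_erase _ _ (Finset.mem_univ C.base), hbase1, zero_add] at h
    exact h
  obtain ⟨c', hc'⟩ : ∃ n, (Finset.univ.erase C.base).card = n := ⟨_, rfl⟩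
  have hle : c' ≤ 2 := by
    have := Finset.sum_le_sum (s := Finset.univ.erase C.base) (f := fun _ => (1 : ℤ))
      (g := fun O => C.trFun O 1) (fun O hO => hpos O (Finset.ne_of_mem_erase hO))
    rw [hsum, Finset.sum_const, hc', nsmul_eq_mul, mul_one] at this
    omega
  have hmem : ∀ b, b ≠ C.a₀ → C.rel C.a₀ b ∈ Finset.univ.erase C.base := fun b hb =>
    Finset.mem_erase.2 ⟨fun e => hb ((C.rel_eq_base).1 e).symm, Finset.mem_univ _⟩
  have hc2 : c' = 2 := by
    by_contra hne
    refine h2 (C.two_pretransitive_of fun b b' hb hb' => ?_)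
    exact Finset.card_le_one.1 (by omega) _ (hmem b hb) _ (hmem b' hb')
  obtain ⟨O₁, O₂, h12, hset⟩ := Finset.card_eq_two.1 (hc'.trans hc2)
  have hO₁ : O₁ ≠ C.base := Finset.ne_of_mem_erase (hset ▸ Finset.mem_insert_self _ _)
  have hO₂ : O₂ ≠ C.base :=
    Finset.ne_of_mem_erase (hset ▸ Finset.mem_insert_of_mem (Finset.mem_singleton_self _))
  have hm : C.trFun O₁ 1 = 1 ∧ C.trFun O₂ 1 = 1 := by
    rw [hset, Finset.sum_pair h12] at hsum
    have := hpos O₁ hO₁
    have := hpos O₂ hO₂
    omega
  have ha : ∀ O, O ≠ C.base → C.trFun O 1 = 1 → 2 * (C.cnt false false O : ℤ) = p - 1 := by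
    intro O hO h1
    rw [← C.trFun_sum, ← Finset.add_sum_erase _ _ (Finset.mem_univ (0 : ZMod p)),
      show C.trFun O 0 = 0 by
        simp [trFun, (C.orb_eq_base (i := false) (j := false) (y := 0)).2 ⟨rfl, rfl⟩,
          (C.orb_eq_base (i := true) (j := true) (y := 0)).2 ⟨rfl, rfl⟩, Ne.symm hO],
      zero_add, Finset.sum_congr rfl (fun y hy => (hm1 O y (Finset.ne_of_mem_erase hy)).trans h1),
      Finset.sum_const, Finset.card_erase_of_mem (Finset.mem_univ _), Finset.card_univ, ZMod.card,
      nsmul_eq_mul, mul_one, Nat.cast_sub hp.out.one_le, Nat.cast_one]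
  obtain ⟨b1, b2⟩ := C.cnt_base
  have huniv : (Finset.univ : Finset C.Orb) = {C.base, O₁, O₂} := by
    rw [← hset, Finset.insert_erase (Finset.mem_univ _)]
  have hcard : Fintype.card C.Orb = 3 := by
    rw [← Finset.card_univ, huniv, Finset.card_insert_of_notMem (by simp [Ne.symm hO₁, Ne.symm hO₂]),
      Finset.card_pair h12]
  have hbsum : (C.cnt false true O₁ : ℤ) + C.cnt false true O₂ = p := by
    have h := C.sum_cnt false true
    rw [huniv, Finset.sum_insert (by simp [Ne.symm hO₁, Ne.symm hO₂]), Finset.sum_pair h12, b2,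
      zero_add] at h
    exact_mod_cast h
  have hS : (C.muZ O₁ : ℚ) ^ 2 / C.size O₁ + (C.muZ O₂ : ℚ) ^ 2 / C.size O₂ = 1 := by
    have h := C.sum_muZ_sq
    rw [huniv, Finset.sum_insert (by simp [Ne.symm hO₁, Ne.symm hO₂]), Finset.sum_pair h12,
      show (C.muZ C.base : ℚ) ^ 2 / (C.size C.base : ℚ) = 1 by simp [muZ, C.size_eq, b1, b2],
      hs.1] at h
    push_cast at h
    rw [mul_div_assoc, div_self (by exact_mod_cast Fintype.card_ne_zero), mul_one] at h
    linarith
  refine ⟨hcard, ?_⟩
  suffices key : ∀ A B : C.Orb, A ≠ C.base → B ≠ C.base → 0 ≤ C.muZ A →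
      C.muZ A + C.muZ B = -1 →
      (C.muZ A : ℚ) ^ 2 / C.size A + (C.muZ B : ℚ) ^ 2 / C.size B = 1 →
      2 * (C.cnt false false A : ℤ) = p - 1 → 2 * (C.cnt false false B : ℤ) = p - 1 →
      ∃ a : ℕ, 0 < a ∧ p = 2 * a ^ 2 + 2 * a + 1 ∧ C.size A = a * (2 * a + 1) ∧
        C.size B = (a + 1) * (2 * a + 1) by
    have hall : ∀ O, O ≠ C.base → O = O₁ ∨ O = O₂ := fun O hO => by
      have := (huniv ▸ Finset.mem_univ O : O ∈ ({C.base, O₁, O₂} : Finset C.Orb))
      simpa [hO] using this
    have hμ : C.muZ O₁ + C.muZ O₂ = -1 := by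
      have := ha O₁ hO₁ hm.1
      have := ha O₂ hO₂ hm.2
      simp only [muZ]
      omega
    rcases le_or_gt 0 (C.muZ O₁) with h | h
    · obtain ⟨a, ha0, hpa, e1, e2⟩ := key O₁ O₂ hO₁ hO₂ h hμ hS (ha _ hO₁ hm.1) (ha _ hO₂ hm.2)
      exact ⟨a, ha0, hpa, fun O hO => (hall O hO).elim (fun e => Or.inl (e ▸ e1))
        (fun e => Or.inr (e ▸ e2))⟩
    · obtain ⟨a, ha0, hpa, e1, e2⟩ := key O₂ O₁ hO₂ hO₁ (by omega) (by omega)
        ((add_comm _ _).trans hS) (ha _ hO₂ hm.2) (ha _ hO₁ hm.1)
      exact ⟨a, ha0, hpa, fun O hO => (hall O hO).elim (fun e => Or.inr (e ▸ e2))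
        (fun e => Or.inl (e ▸ e1))⟩
  intro A B hA hB hA0 hμ hS' hαA hαB
  obtain ⟨a, haA⟩ : ∃ a : ℕ, C.muZ A = a := ⟨(C.muZ A).toNat, (Int.toNat_of_nonneg hA0).symm⟩
  have hkA : (C.size A : ℤ) = p - 1 - a := by
    rw [C.size_eq]
    simp only [muZ] at haA
    omega
  have hμB : C.muZ B = -1 - a := by omega
  have hkB : (C.size B : ℤ) = p + a := by
    rw [C.size_eq]
    simp only [muZ] at hμB
    omega
  have hkA0 : (C.size A : ℚ) ≠ 0 := by exact_mod_cast (C.size_pos A).ne'
  have hkB0 : (C.size B : ℚ) ≠ 0 := by exact_mod_cast (C.size_pos B).ne'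
  have hp0 : (2 : ℤ) ≤ p := by exact_mod_cast hp.out.two_le
  have hq : (a : ℤ) ^ 2 * C.size B + (a + 1) ^ 2 * C.size A = (C.size A : ℤ) * C.size B := by
    rw [haA, hμB] at hS'
    field_simp at hS'
    have : ((((a : ℤ) ^ 2 * C.size B + (a + 1) ^ 2 * C.size A : ℤ)) : ℚ) =
        (((C.size A : ℤ) * C.size B : ℤ) : ℚ) := by
      push_cast at hS' ⊢
      linear_combination hS'
    exact_mod_cast this
  rw [hkA, hkB] at hq
  have hfac : ((p : ℤ) - 1) * ((p : ℤ) - (2 * a ^ 2 + 2 * a + 1)) = 0 := by linear_combination -hq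
  have hpa : (p : ℤ) = 2 * a ^ 2 + 2 * a + 1 := by
    rcases mul_eq_zero.1 hfac with h | h
    · omega
    · linarith
  refine ⟨a, ?_, by exact_mod_cast hpa, ?_, ?_⟩
  · rcases Nat.eq_zero_or_pos a with rfl | h
    · simp at hpa; omega
    · exact h
  · have : (C.size A : ℤ) = a * (2 * a + 1) := by rw [hkA, hpa]; ring
    exact_mod_cast this
  · have : (C.size B : ℤ) = (a + 1) * (2 * a + 1) := by rw [hkB, hpa]; ring
    exact_mod_cast this

end CfsgLib.PermSmall.DoublePrime.Frame

namespace CfsgLib.PermSmall.DoublePrime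

open MulAction
open scoped Classical

variable {α : Type*} [Fintype α] [DecidableEq α]

theorem two_pretransitive_of_alternating (h4 : 4 ≤ Fintype.card α)
    {G : Subgroup (Equiv.Perm α)} (h : alternatingGroup α ≤ G) :
    IsMultiplyPretransitive G α 2 := by
  haveI := alternatingGroup.isMultiplyPretransitive α
  have h2 : IsMultiplyPretransitive (alternatingGroup α) α 2 :=
    isMultiplyPretransitive_of_le (n := Nat.card α - 2)
      (by rw [Nat.card_eq_fintype_card]; omega) (by omega)
  rw [is_two_pretransitive_iff] at h2 ⊢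
  intro a b c d hab hcd
  obtain ⟨g, hg1, hg2⟩ := h2 hab hcd
  exact ⟨⟨g.1, h g.2⟩, hg1, hg2⟩

/-- Primitive groups of degree four are doubly transitive. -/
theorem degree_four (hcard : Fintype.card α = 4) (G : Subgroup (Equiv.Perm α))
    [IsPreprimitive G α] : IsMultiplyPretransitive G α 2 := by
  haveI : Nontrivial α := Fintype.one_lt_card_iff_nontrivial.1 (by omega)
  haveI : Nonempty α := inferInstance
  obtain ⟨a⟩ := ‹Nonempty α›
  have h3 : 3 ∣ Nat.card G := by
    by_contra hnd
    have hdvd : Nat.card G ∣ 24 := by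
      have := Subgroup.card_subgroup_dvd_card G
      rwa [Nat.card_perm, Nat.card_eq_fintype_card (α := α), hcard] at this
    have hc8 : Nat.card G ∣ 8 := (Nat.Coprime.dvd_of_dvd_mul_left
      ((Nat.prime_three.coprime_iff_not_dvd.2 hnd).symm) (show Nat.card G ∣ 3 * 8 from hdvd))
    obtain ⟨k, -, hk⟩ := (Nat.dvd_prime_pow Nat.prime_two).1 (show Nat.card G ∣ 2 ^ 3 from hc8)
    haveI := Fact.mk Nat.prime_two
    haveI : Group.IsNilpotent G := (IsPGroup.of_card hk).isNilpotent
    have hn := Subgroup.NormalizerCondition.normal_of_coatom (stabilizer G a)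
      normalizerCondition_of_isNilpotent
      (IsPreprimitive.isCoatom_stabilizer_of_isPreprimitive G a)
    have hcoat := IsPreprimitive.isCoatom_stabilizer_of_isPreprimitive G a
    have hbot : stabilizer G a = ⊥ := by
      rw [eq_bot_iff]
      intro g hg
      rw [Subgroup.mem_bot]
      refine eq_of_smul_eq_smul (α := α) fun b => ?_
      obtain ⟨k, rfl⟩ := exists_smul_eq G a b
      have := hn.conj_mem' g hg k
      rw [mem_stabilizer_iff, mul_smul, mul_smul, inv_smul_eq_iff] at this
      rw [this, one_smul]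
    rw [hbot] at hcoat
    haveI : Nontrivial G := by
      obtain ⟨b, hb⟩ := exists_ne a
      obtain ⟨g, hg⟩ := exists_smul_eq G a b
      exact ⟨g, 1, fun e => hb (by rw [← hg, e, one_smul])⟩
    haveI : IsSimpleGroup G := ⟨fun N _ => hcoat.le_iff.1 bot_le |>.symm⟩
    have hsurj : Function.Surjective fun g : G => g • a := fun b => exists_smul_eq G a b
    have hinj : Function.Injective fun g : G => g • a := fun g g' e => by
      have hmem : g'⁻¹ * g ∈ stabilizer G a := by
        rw [mem_stabilizer_iff, mul_smul, show g • a = g' • a from e, inv_smul_smul]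
      rw [hbot, Subgroup.mem_bot, inv_mul_eq_one] at hmem
      exact hmem.symm
    have hG4 : Nat.card G = 4 := by
      rw [Nat.card_eq_of_bijective _ ⟨hinj, hsurj⟩, Nat.card_eq_fintype_card, hcard]
    obtain ⟨t, ht⟩ := exists_prime_orderOf_dvd_card' (G := G) 2 (by rw [hG4]; norm_num)
    rcases hcoat.le_iff.1 (bot_le : ⊥ ≤ Subgroup.zpowers t) with h | h
    · have := congrArg (fun K : Subgroup G => Nat.card K) h
      rw [Nat.card_zpowers, ht, Subgroup.card_top, hG4] at this
      omega
    · rw [Subgroup.zpowers_eq_bot] at h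
      rw [h, orderOf_one] at ht
      omega
  haveI : Fact (Nat.Prime 3) := ⟨Nat.prime_three⟩
  obtain ⟨t, ht⟩ := exists_prime_orderOf_dvd_card' (G := G) 3 h3
  have ht' : orderOf (t : Equiv.Perm α) = 3 := by rw [Subgroup.orderOf_coe, ht]
  have hcyc : (t : Equiv.Perm α).IsCycle :=
    Equiv.Perm.isCycle_of_prime_order' (by rw [ht']; exact Nat.prime_three) (by rw [ht', hcard]; norm_num)
  have hsupp : (t : Equiv.Perm α).support.card = 3 := by rw [← hcyc.orderOf, ht']
  exact two_pretransitive_of_alternating (by omega)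
    (Equiv.Perm.alternatingGroup_le_of_isPreprimitive_of_isThreeCycle_mem ‹_›
      (card_support_eq_three_iff.1 hsupp) t.2)

/-- Wielandt's theorem. -/
theorem main {p : ℕ} (hp : p.Prime) (hcard : Fintype.card α = 2 * p) (G : Subgroup (Equiv.Perm α))
    (hG : IsPreprimitive G α) (a₀ : α) :
    IsMultiplyPretransitive G α 2 ∨
      (Nat.card (orbitRel.Quotient (stabilizer G a₀) α) = 3 ∧ ∃ a : ℕ, 0 < a ∧
        p = 2 * a ^ 2 + 2 * a + 1 ∧ ∀ b : α, b ≠ a₀ →
          Nat.card (orbit (stabilizer G a₀) b) = a * (2 * a + 1) ∨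
            Nat.card (orbit (stabilizer G a₀) b) = (a + 1) * (2 * a + 1)) := by
  haveI := hG
  haveI := Fact.mk hp
  by_cases h2 : IsMultiplyPretransitive G α 2
  · exact Or.inl h2
  refine Or.inr ?_
  have hp3 : 3 ≤ p := by
    by_contra hlt
    have := hp.two_le
    exact h2 (degree_four (by omega) G)
  have hfree : ∀ g : G, g ^ p = 1 → ∀ a : α, g • a = a → g = 1 := by
    intro g hg a hga
    by_contra hg1
    have hord : orderOf (g : Equiv.Perm α) = p := by
      rw [Subgroup.orderOf_coe]; exact orderOf_eq_prime hg hg1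
    have hlt : (g : Equiv.Perm α).support.card < 2 * p := by
      rw [← hcard]
      exact Finset.card_lt_univ_of_notMem (x := a) (fun h => Equiv.Perm.mem_support.1 h hga)
    have hcyc : (g : Equiv.Perm α).IsCycle :=
      Equiv.Perm.isCycle_of_prime_order (by rw [hord]; exact hp) (by rw [hord]; exact hlt)
    refine h2 (two_pretransitive_of_alternating (by omega) (Cfsg.Agent.S0713.result G hG hp
      (by omega) (by omega) hcyc ?_ g.2))
    rw [← hcyc.orderOf, hord]
  have hdvd : p ∣ Nat.card G := by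
    have h1 := index_stabilizer G a₀
    rw [show orbit G a₀ = Set.univ from orbit_eq_univ G a₀, Set.ncard_univ, Nat.card_eq_fintype_card, hcard] at h1
    exact (dvd_mul_left p 2).trans (h1 ▸ Subgroup.index_dvd_card _)
  obtain ⟨x, hx⟩ := exists_prime_orderOf_dvd_card' (G := G) p hdvd
  have hxp : x ^ p = 1 := hx ▸ pow_orderOf_eq_one x
  have hinj : ∀ (z : α) (m n : ZMod p), x ^ m.val • z = x ^ n.val • z → m = n := by
    intro z m n e
    have hfix : x ^ (m - n).val • (x ^ n.val • z) = x ^ n.val • z := by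
      rw [← mul_smul, ← pow_add, pow_eq_pow_mod _ hxp, ← ZMod.val_add, sub_add_cancel]
      exact e
    have h1 := hfree (x ^ (m - n).val) (by rw [← pow_mul, mul_comm, pow_mul, hxp, one_pow]) _ hfix
    have h3 := orderOf_dvd_of_pow_eq_one h1
    rw [hx] at h3
    have h4 : (m - n).val = 0 := Nat.eq_zero_of_dvd_of_lt h3 (ZMod.val_lt _)
    exact sub_eq_zero.1 ((ZMod.val_eq_zero _).1 h4)
  obtain ⟨b₀, hb₀⟩ : ∃ b, ∀ m : ZMod p, x ^ m.val • a₀ ≠ b := by
    by_contra hall
    simp only [not_exists, not_forall, not_not] at hall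
    have := Fintype.card_le_of_surjective (fun m : ZMod p => x ^ m.val • a₀) hall
    rw [ZMod.card, hcard] at this
    omega
  let emb : Bool × ZMod p → α := fun q => x ^ q.2.val • (if q.1 then b₀ else a₀)
  have hemb : Function.Injective emb := by
    have hcross : ∀ m n : ZMod p, x ^ m.val • a₀ ≠ x ^ n.val • b₀ := by
      intro m n e
      refine hb₀ (m - n) (MulAction.injective (x ^ n.val) ?_)
      show x ^ n.val • x ^ (m - n).val • a₀ = x ^ n.val • b₀
      rw [← mul_smul, ← pow_add, pow_eq_pow_mod _ hxp, ← ZMod.val_add, add_sub_cancel]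
      exact e
    rintro ⟨i, m⟩ ⟨j, n⟩ e
    cases i <;> cases j <;> simp only [emb, Bool.false_eq_true, if_true, if_false] at e
    · rw [hinj _ _ _ e]
    · exact absurd e (hcross m n)
    · exact absurd e.symm (hcross n m)
    · rw [hinj _ _ _ e]
  have hbij : Function.Bijective emb := (Fintype.bijective_iff_injective_and_card emb).2
    ⟨hemb, by rw [Fintype.card_prod, Fintype.card_bool, ZMod.card, hcard]⟩
  let C : Frame G p :=
    { a₀ := a₀
      e := (Equiv.ofBijective emb hbij).symm
      e_a₀ := by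
        apply (Equiv.ofBijective emb hbij).injective
        rw [Equiv.apply_symm_apply]
        simp [emb]
      x := x
      x_smul := fun i y => by
        show x • emb (i, y) = emb (i, y + 1)
        simp only [emb, ← mul_smul]
        congr 1
        rw [← pow_succ', pow_eq_pow_mod _ hxp, ZMod.val_add, ZMod.val_one]
      trans := inferInstance }
  rcases C.trichotomy with h | ⟨h, hfull⟩ | hs
  · exact absurd h C.lam_ne
  · exact absurd (C.two_pretransitive_of_full h hfull) h2
  obtain ⟨hc3, a, ha0, hpa, hsz⟩ := C.params hs (C.mult_eq_top hs hfree) h2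
  refine ⟨by rw [Nat.card_eq_fintype_card]; convert hc3, a, ha0, hpa, fun b hb => ?_⟩
  have hsize : C.size (C.rel C.a₀ b) = Nat.card (orbit (stabilizer G a₀) b) := by
    rw [Frame.size, Nat.card_coe_set_eq, ← Set.ncard_coe_finset]
    congr 1
    ext z
    simp only [Finset.coe_filter, Finset.mem_univ, true_and, Set.mem_setOf_eq, C.rel_base]
    exact Quotient.eq''
  rw [← hsize]
  exact hsz _ fun e => hb ((C.rel_eq_base).1 e).symm

end CfsgLib.PermSmall.DoublePrime
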