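import Cfsg.Agent.Lib.PermSmall.DoublePrime.Chars

/-!
Elementary properties of the orbitals of a primitive group with such a frame.
-/

set_option autoImplicit false
set_option linter.unusedSectionVars false

noncomputable section

namespace CfsgLib.PermSmall.DoublePrime.Frame

open MulAction
open scoped Classical ComplexConjugate Matrix

variable {α : Type*} [Fintype α] [DecidableEq α] {G : Subgroup (Equiv.Perm α)} {p : ℕ}
  [hp : Fact p.Prime] (C : Frame G p)

/-- The orbital function of a pair of blocks. -/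
def orb (i j : Bool) (y : ZMod p) : C.Orb := C.rel (C.pt i 0) (C.pt j y)

theorem rel_pt (i j : Bool) (a b : ZMod p) :
    C.rel (C.pt i a) (C.pt j b) = C.orb i j (b - a) := by
  rw [orb, ← C.rel_smul (C.x ^ a.val) (C.pt i 0) (C.pt j (b - a)), C.xpow_pt, C.xpow_pt,
    ZMod.natCast_zmod_val, zero_add, sub_add_cancel]

theorem orb_eq_base {i j : Bool} {y : ZMod p} : C.orb i j y = C.base ↔ i = j ∧ y = 0 := by
  rw [orb, C.rel_eq_base, C.pt_inj]
  exact ⟨fun h => ⟨h.1, h.2.symm⟩, fun h => ⟨h.1, h.2.symm⟩⟩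

/-- The diagonal count of an orbital. -/
def trFun (O : C.Orb) (y : ZMod p) : ℤ :=
  (if C.orb false false y = O then 1 else 0) + if C.orb true true y = O then 1 else 0

theorem blk_adj (O : C.Orb) (i j : Bool) (y : ZMod p) :
    C.blk (C.adj O) i j y = if C.orb i j y = O then 1 else 0 := rfl

theorem ft_trFun (O : C.Orb) (m : ZMod p) :
    ft (fun y => (C.trFun O y : ℂ)) m =
      C.BM (C.adj O) m false false + C.BM (C.adj O) m true true := by
  simp only [BM, ← ft_add]
  refine congrArg (fun f => ft f m) (funext fun y => ?_)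
  simp only [blk_adj, trFun]
  push_cast
  rfl

theorem sum_trFun (y : ZMod p) : ∑ O, C.trFun O y = 2 := by
  simp [trFun, Finset.sum_add_distrib]

theorem trFun_sum (O : C.Orb) : ∑ y, C.trFun O y = 2 * (C.cnt false false O : ℤ) := by
  have h := (C.cnt_true O).1
  have e : ∀ i, (C.cnt i i O : ℤ) = ∑ y, if C.orb i i y = O then (1 : ℤ) else 0 := fun i => by
    rw [cnt, Finset.card_filter]
    push_cast
    rfl
  simp only [trFun, Finset.sum_add_distrib, ← e, h]
  ring

theorem cnt_base : C.cnt false false C.base = 1 ∧ C.cnt false true C.base = 0 := by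
  constructor
  · rw [cnt, Finset.card_eq_one]
    exact ⟨0, Finset.ext fun y => by simpa [orb] using C.orb_eq_base (i := false) (j := false) (y := y)⟩
  · rw [cnt, Finset.card_eq_zero, Finset.filter_eq_empty_iff]
    intro y _ h
    exact Bool.false_ne_true (C.orb_eq_base.1 h).1

theorem sum_cnt (i j : Bool) : ∑ O, C.cnt i j O = p := by
  have h := Finset.card_eq_sum_card_fiberwise (s := (Finset.univ : Finset (ZMod p)))
    (t := (Finset.univ : Finset C.Orb)) (f := C.orb i j) (fun _ _ => Finset.mem_coe.2 (Finset.mem_univ _))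
  rw [Finset.card_univ, ZMod.card] at h
  exact h.symm

theorem exists_orb {i j : Bool} {O : C.Orb} (h : 0 < C.cnt i j O) : ∃ y, C.orb i j y = O := by
  obtain ⟨y, hy⟩ := Finset.card_pos.1 h
  exact ⟨y, (Finset.mem_filter.1 hy).2⟩

variable [IsPreprimitive G α]

theorem gram_x_ne : C.x ≠ 1 := by
  intro h
  have h1 := C.x_smul false 0
  rw [h, one_smul, C.e.symm.injective.eq_iff, Prod.mk.injEq, zero_add] at h1
  exact zero_ne_one h1.2

theorem x_pow_p : C.x ^ p = 1 := by
  refine Subtype.ext (Equiv.ext fun a => ?_)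
  obtain ⟨i, y, rfl⟩ := C.exists_pt a
  have := C.xpow_pt p i y
  simp only [ZMod.natCast_self, add_zero] at this
  exact this

/-- No suborbit other than the trivial one has one point. -/
theorem two_le_size {O : C.Orb} (hO : O ≠ C.base) : 2 ≤ C.size O := by
  haveI : Nontrivial α := ⟨C.pt false 0, C.pt true 0, fun h => Bool.false_ne_true (C.pt_inj.1 h).1⟩
  by_contra hlt
  have hne : C.rep O ≠ C.a₀ := by
    intro h
    have := C.rel_rep O
    rw [h] at this
    exact hO this.symm
  set K := stabilizer G C.a₀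
  have hfix : ∀ k ∈ K, k • C.rep O = C.rep O := by
    intro k hk
    have h1 : C.rel C.a₀ (k • C.rep O) = O := by
      have := C.rel_smul k C.a₀ (C.rep O)
      rw [mem_stabilizer_iff.1 hk, C.rel_rep] at this
      exact this
    exact Finset.card_le_one.1 (show C.size O ≤ 1 by omega) _
      (Finset.mem_filter.2 ⟨Finset.mem_univ _, h1⟩) _
      (Finset.mem_filter.2 ⟨Finset.mem_univ _, C.rel_rep O⟩)
  set g := C.mv (C.rep O)
  have hgK : g ∉ K := fun h => hne ((C.mv_spec (C.rep O)).symm.trans (mem_stabilizer_iff.1 h))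
  have hg1 : ∀ k ∈ K, g⁻¹ * k * g ∈ K := fun k hk => by
    rw [mem_stabilizer_iff, mul_smul, mul_smul, C.mv_spec, hfix k hk, inv_smul_eq_iff, C.mv_spec]
  have hg : g ∈ Subgroup.normalizer (K : Set G) := by
    have h2 : K.map (MulAut.conj g⁻¹).toMonoidHom = K := by
      refine Subgroup.eq_of_le_of_card_ge ?_ ?_
      · rintro _ ⟨k, hk, rfl⟩
        simpa using hg1 k hk
      · rw [Subgroup.card_map_of_injective (MulAut.conj g⁻¹).injective]
    rw [Subgroup.mem_normalizer_iff]
    intro k
    constructor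
    · intro h
      obtain ⟨k', hk', he⟩ : k ∈ K.map (MulAut.conj g⁻¹).toMonoidHom := by rw [h2]; exact h
      have he' : g⁻¹ * k' * g = k := by simpa using he
      rw [← he']
      simpa [mul_assoc] using hk'
    · intro h
      simpa [mul_assoc] using hg1 _ h
  have hcoat : IsCoatom K := IsPreprimitive.isCoatom_stabilizer_of_isPreprimitive G C.a₀
  rcases hcoat.le_iff.1 (Subgroup.le_normalizer : K ≤ _) with h | h
  · have hn : K.Normal := Subgroup.normalizer_eq_top_iff.1 h
    have hbot : K = ⊥ := by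
      rw [eq_bot_iff]
      intro k hk
      rw [Subgroup.mem_bot]
      refine eq_of_smul_eq_smul (α := α) fun a => ?_
      have : (C.mv a)⁻¹ * k * C.mv a ∈ K := hn.conj_mem' k hk _
      rw [mem_stabilizer_iff, mul_smul, mul_smul, C.mv_spec, inv_smul_eq_iff, C.mv_spec] at this
      rw [this, one_smul]
    rw [hbot] at hcoat
    have hx : Subgroup.zpowers C.x = ⊤ := (hcoat.le_iff.1 bot_le).resolve_right fun h =>
      C.gram_x_ne (Subgroup.zpowers_eq_bot.1 h)
    have hc : Nat.card G ≤ p := by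
      rw [← Subgroup.card_top (G := G), ← hx, Nat.card_zpowers]
      exact orderOf_le_of_pow_eq_one hp.out.pos C.x_pow_p
    have h2 : Nat.card α ≤ Nat.card G :=
      Nat.card_le_card_of_surjective (fun g : G => g • C.a₀) fun a => ⟨C.mv a, C.mv_spec a⟩
    rw [Nat.card_eq_fintype_card, C.card_α] at h2
    have := hp.out.pos
    omega
  · exact hgK (h ▸ hg)

/-- With a small sum of squares every orbital meets both kinds of blocks. -/
theorem cnt_pos {c : ℚ} (hc : c < 3) (hS : ∑ O, (C.muZ O : ℚ) ^ 2 / (C.size O : ℚ) = c)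
    {O : C.Orb} (hO : O ≠ C.base) : 0 < C.cnt false false O ∧ 0 < C.cnt false true O := by
  have h2 := C.two_le_size hO
  have hterm : (C.muZ O : ℚ) ^ 2 / (C.size O : ℚ) < 2 := by
    have h := Finset.add_le_sum (f := fun O => (C.muZ O : ℚ) ^ 2 / (C.size O : ℚ))
      (fun i _ => div_nonneg (sq_nonneg _) (Nat.cast_nonneg _)) (Finset.mem_univ O)
      (Finset.mem_univ C.base) hO
    rw [hS] at h
    obtain ⟨b1, b2⟩ := C.cnt_base
    rw [show (C.muZ C.base : ℚ) ^ 2 / (C.size C.base : ℚ) = 1 by
      simp [muZ, C.size_eq, b1, b2]] at h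
    linarith
  have hs := C.size_eq O
  constructor <;>
  · rw [pos_iff_ne_zero]
    intro h0
    rw [div_lt_iff₀ (by exact_mod_cast (C.size_pos O))] at hterm
    have : ((C.muZ O) ^ 2 : ℤ) < 2 * (C.size O : ℤ) := by exact_mod_cast hterm
    rw [muZ, hs, h0] at this
    rw [hs, h0] at h2
    push_cast at this
    nlinarith

/-- Doubly transitive when only one non-trivial orbital occurs. -/
theorem two_pretransitive_of (h : ∀ b b', b ≠ C.a₀ → b' ≠ C.a₀ → C.rel C.a₀ b = C.rel C.a₀ b') :
    IsMultiplyPretransitive G α 2 := by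
  rw [is_two_pretransitive_iff]
  intro a b c d hab hcd
  have h1 : (C.mv a)⁻¹ • b ≠ C.a₀ := by
    rw [ne_eq, inv_smul_eq_iff, C.mv_spec]; exact hab.symm
  have h2 : (C.mv c)⁻¹ • d ≠ C.a₀ := by
    rw [ne_eq, inv_smul_eq_iff, C.mv_spec]; exact hcd.symm
  have e := h _ _ h2 h1
  rw [C.rel_base, C.rel_base] at e
  obtain ⟨⟨k, hk⟩, hk'⟩ := Quotient.exact e
  have hk2 : k • (C.mv a)⁻¹ • b = (C.mv c)⁻¹ • d := hk'
  refine ⟨C.mv c * k * (C.mv a)⁻¹, ?_, ?_⟩
  · rw [mul_smul, mul_smul, inv_smul_eq_iff.2 (C.mv_spec a).symm, mem_stabilizer_iff.1 hk,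
      C.mv_spec]
  · rw [mul_smul, mul_smul, hk2, smul_inv_smul]

/-- If the separating vector is an eigenvector of `G` then `G` is imprimitive. -/
theorem lam_ne : C.lam ≠ 2 * (p : ℤ) * Fintype.card G := by
  intro h
  have hsum := C.sum_sq_eq
  rw [h] at hsum
  have hle : ∀ g : G, (∑ a, C.v (g⁻¹ • a) * C.v a) ^ 2 ≤ (2 * (p : ℤ)) ^ 2 := by
    intro g
    rw [sq_le_sq]
    refine (Finset.abs_sum_le_sum_abs _ _).trans ?_
    have : ∀ a, |C.v (g⁻¹ • a) * C.v a| = 1 := fun a => by
      rw [abs_mul]; simp only [v]; split <;> split <;> norm_num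
    simp [this, C.card_α]
  have heq : ∀ g : G, (∑ a, C.v (g⁻¹ • a) * C.v a) ^ 2 = (2 * (p : ℤ)) ^ 2 := by
    by_contra hcon
    simp only [not_forall] at hcon
    obtain ⟨g, hg⟩ := hcon
    have := Finset.sum_lt_sum (fun g _ => hle g) ⟨g, Finset.mem_univ g, (hle g).lt_of_ne hg⟩
    rw [hsum, Finset.sum_const, Finset.card_univ, nsmul_eq_mul] at this
    exact absurd this (by rw [not_lt]; ring_nf; rfl)
  have hflip : ∀ g : G, ∃ s : ℤ, ∀ a, C.v (g • a) = s * C.v a := by
    intro g
    have hvv : ∀ a, C.v (g • a) * C.v a = 1 ∨ C.v (g • a) * C.v a = -1 := fun a => by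
      simp only [v]; split <;> split <;> simp
    have hcard : (Fintype.card α : ℤ) = 2 * p := by rw [C.card_α]; push_cast; rfl
    have h1 := heq g⁻¹
    simp only [inv_inv, sq_eq_sq_iff_eq_or_eq_neg] at h1
    rcases h1 with h1 | h1
    · refine ⟨1, fun a => ?_⟩
      have := (Finset.sum_eq_zero_iff_of_nonneg (f := fun a => 1 - C.v (g • a) * C.v a)
        (fun b _ => by rcases hvv b with e | e <;> linarith)).1
        (by rw [Finset.sum_sub_distrib, h1]; simp [hcard]) a (Finset.mem_univ a)
      calc C.v (g • a) = C.v (g • a) * C.v a * C.v a := by rw [mul_assoc, C.v_mul_self, mul_one]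
        _ = 1 * C.v a := by rw [show C.v (g • a) * C.v a = 1 by linarith]
    · refine ⟨-1, fun a => ?_⟩
      have := (Finset.sum_eq_zero_iff_of_nonneg (f := fun a => 1 + C.v (g • a) * C.v a)
        (fun b _ => by rcases hvv b with e | e <;> linarith)).1
        (by rw [Finset.sum_add_distrib, h1]; simp [hcard]) a (Finset.mem_univ a)
      calc C.v (g • a) = C.v (g • a) * C.v a * C.v a := by rw [mul_assoc, C.v_mul_self, mul_one]
        _ = -1 * C.v a := by rw [show C.v (g • a) * C.v a = -1 by linarith]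
  have hB : IsBlock G {a : α | C.v a = 1} := by
    rw [isBlock_iff_smul_eq_of_mem]
    intro g a ha hga
    obtain ⟨s, hs⟩ := hflip g
    have h1 := hs a
    simp only [Set.mem_setOf_eq] at ha hga
    rw [ha, hga, mul_one] at h1
    ext b
    rw [Set.mem_smul_set_iff_inv_smul_mem]
    have := hs (g⁻¹ • b)
    rw [smul_inv_smul, ← h1, one_mul] at this
    simp only [Set.mem_setOf_eq, this]
  rcases IsPreprimitive.isTrivialBlock_of_isBlock hB with h1 | h1
  · refine zero_ne_one (α := ZMod p) (C.pt_inj.1 (h1 (show C.pt false 0 ∈ {a : α | C.v a = 1} by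
      simp [C.v_pt]) (show C.pt false 1 ∈ {a : α | C.v a = 1} by simp [C.v_pt]))).2
  · have h2 : C.pt true 0 ∈ {a : α | C.v a = 1} := h1 ▸ Set.mem_univ _
    simp [C.v_pt] at h2

end CfsgLib.PermSmall.DoublePrime.Frame
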