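import Cfsg.Agent.Lib.PermSmall.DoublePrime.Orbitals
import Cfsg.Agent.Lib.Characters.Decomp

/-!
A primitive group of degree `2p` has rank at most three.
-/

set_option autoImplicit false
set_option linter.unusedSectionVars false

noncomputable section

namespace CfsgLib.PermSmall.DoublePrime.Frame

open MulAction
open scoped Classical ComplexConjugate Matrix

variable {α : Type*} [Fintype α] [DecidableEq α] {G : Subgroup (Equiv.Perm α)} {p : ℕ}
  [hp : Fact p.Prime] (C : Frame G p) [IsPreprimitive G α]

/-- If every eigenspace lies in the submodule then the group is doubly transitive. -/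
theorem two_pretransitive_of_full
    (h : C.lam * (2 * (p : ℤ) - 1) = 2 * (p : ℤ) * Fintype.card G)
    (hfull : ∀ m : ZMod p, m ≠ 0 → C.BM C.gramC m = (C.lam : ℂ) • 1) :
    IsMultiplyPretransitive G α 2 := by
  have hp2 : (2 : ℚ) ≤ p := by exact_mod_cast hp.out.two_le
  have hc : (C.lam : ℚ) / (Fintype.card G : ℚ) < 3 := by
    have hq : (C.lam : ℚ) * (2 * p - 1) = 2 * p * (Fintype.card G : ℚ) := by exact_mod_cast h
    have hg : (0 : ℚ) < Fintype.card G := by exact_mod_cast Fintype.card_pos
    rw [div_lt_iff₀ hg]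
    nlinarith
  have hall : ∀ O, O ≠ C.base → O = C.orb false false 1 := by
    intro O hO
    obtain ⟨y, hy⟩ := C.exists_orb (C.cnt_pos hc C.sum_muZ_sq hO).1
    have hy0 : y ≠ 0 := fun e => hO (by rw [← hy, C.orb_eq_base]; exact ⟨rfl, e⟩)
    have hBM : C.BM (C.adj O) 1 false false = (C.muZ O : ℂ) := by
      have e := C.BM_mul (C.inv_adj O) C.inv_gram 1
      rw [C.mul_gram (C.inv_adj O), C.BM_smul, hfull 1 one_ne_zero, C.mu_adj', Matrix.mul_smul,
        mul_one, smul_smul] at e
      have := congrFun (congrFun e false) false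
      simp only [Matrix.smul_apply, Matrix.one_apply_eq, smul_eq_mul, mul_one] at this
      exact mul_left_cancel₀ C.lamC_ne (this.symm.trans (mul_comm _ _))
    have hv := int_value (fun z => if C.orb false false z = O then (1 : ℤ) else 0) one_ne_zero
      (c := C.muZ O) (by
        rw [← hBM, BM]
        refine congrArg (fun f => ft f 1) (funext fun z => ?_)
        rw [C.blk_adj]
        push_cast
        rfl)
    have h1 := (hv y hy0).trans (hv 1 one_ne_zero).symm
    rw [if_pos hy] at h1
    by_contra hne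
    rw [if_neg (Ne.symm hne)] at h1
    exact one_ne_zero h1
  refine C.two_pretransitive_of fun b b' hb hb' => ?_
  rw [hall _ (fun e => hb ((C.rel_eq_base).1 e).symm),
    hall _ (fun e => hb' ((C.rel_eq_base).1 e).symm)]

/-- The units fixing all diagonal counts. -/
def mult : Subgroup (ZMod p)ˣ where
  carrier := {u | ∀ O y, C.trFun O ((u : ZMod p) * y) = C.trFun O y}
  one_mem' := fun O y => by simp
  mul_mem' := fun {u w} hu hw O y => by rw [Units.val_mul, mul_assoc, hu, hw]
  inv_mem' := fun {u} hu O y => by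
    have := hu O (((u⁻¹ : (ZMod p)ˣ) : ZMod p) * y)
    rw [← mul_assoc, ← Units.val_mul, mul_inv_cancel, Units.val_one, one_mul] at this
    exact this.symm

theorem theta_mult {u : (ZMod p)ˣ} (hu : u ∈ C.mult) (O : C.Orb) (m : ZMod p) :
    C.theta (C.adj O) (m * u) = C.theta (C.adj O) m := by
  simp only [theta, ← C.ft_trFun]
  congr 1
  have h := ft_comp_mul (fun y => (C.trFun O y : ℂ))
    (inv_ne_zero u.ne_zero) m
  rw [inv_inv] at h
  rw [← h]
  refine congrArg (fun f => ft f m) (funext fun y => ?_)
  have h2 := hu O ((u : ZMod p)⁻¹ * y)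
  rw [← mul_assoc, mul_inv_cancel₀ u.ne_zero, one_mul] at h2
  rw [← h2]

theorem mem_mult_of {u : (ZMod p)ˣ} {m : ZMod p} (hm : m ≠ 0)
    (h : ∀ O, C.theta (C.adj O) (m * u) = C.theta (C.adj O) m) : u ∈ C.mult := fun O y => by
  have := h O
  simp only [theta, ← C.ft_trFun, sub_left_inj] at this
  exact int_galois (C.trFun O) u.ne_zero hm this y

/-- The cosets. -/
abbrev Cls := (ZMod p)ˣ ⧸ C.mult

variable (hs : C.Split)

/-- The characters of the algebra. -/
def chars : Option (Option C.Cls) → Matrix α α ℂ →ₗ[ℂ] ℂ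
  | none => C.degL
  | some none => C.muL
  | some (some q) => C.thetaL ((q.out : (ZMod p)ˣ) : ZMod p)

theorem isChar_chars (hs : C.Split) (i : Option (Option C.Cls)) : C.IsChar (C.chars i) :=
  match i with
  | none => C.isChar_deg
  | some none => C.isChar_mu
  | some (some q) => C.isChar_theta hs (q.out : (ZMod p)ˣ).ne_zero

theorem theta_out (hs : C.Split) (u : (ZMod p)ˣ) {X : Matrix α α ℂ} (hX : C.Inv X) :
    C.thetaL (((QuotientGroup.mk u : C.Cls).out : (ZMod p)ˣ) : ZMod p) X =
      C.thetaL (u : ZMod p) X := by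
  obtain ⟨w, hw⟩ := QuotientGroup.mk_out_eq_mul C.mult u
  rw [(C.isChar_theta hs (QuotientGroup.mk u : C.Cls).out.ne_zero).apply_eq hX,
    (C.isChar_theta hs u.ne_zero).apply_eq hX]
  refine Finset.sum_congr rfl fun O _ => ?_
  rw [thetaL_apply, thetaL_apply, hw, Units.val_mul, C.theta_mult w.2]

theorem chars_separated (hs : C.Split) (hne : C.mult ≠ ⊤) {i j : Option (Option C.Cls)}
    (hij : i ≠ j) : ∃ Y, C.Inv Y ∧ C.chars i Y ≠ C.chars j Y := by
  have hJ : ∀ k, C.chars (some k) (Matrix.of fun _ _ => 1) = 0 := by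
    intro k
    match k with
    | none => simp [chars, muL_apply, mu, BM, blk, ft_zero']
    | some q =>
      simp only [chars, thetaL_apply, theta, mu, BM,
        show ∀ i j, C.blk (Matrix.of fun _ _ => (1 : ℂ)) i j = fun _ => (1 : ℂ) from fun _ _ => rfl,
        ft_const,
        (q.out : (ZMod p)ˣ).ne_zero, if_false, if_true, sub_self, add_zero]
  have hJ' : C.chars none (Matrix.of fun _ _ => 1) ≠ 0 := by
    simp [chars, degL_apply, C.deg_eq, C.card_α, hp.out.ne_zero]
  have hmu : ∀ q, ∃ Y, C.Inv Y ∧ C.chars (some none) Y ≠ C.chars (some (some q)) Y := by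
    intro q
    by_contra hall
    simp only [not_exists, not_and, ne_eq, not_not] at hall
    refine hne (eq_top_iff.2 fun u _ O y => ?_)
    have hm : ((q.out : (ZMod p)ˣ) : ZMod p) ≠ 0 := q.out.ne_zero
    have h2 : ft (fun y => (C.trFun O y : ℂ)) ((q.out : (ZMod p)ˣ) : ZMod p) =
        ((2 * C.muZ O : ℤ) : ℂ) := by
      have h3 := hall _ (C.inv_adj O)
      simp only [chars, muL_apply, thetaL_apply, theta, C.mu_adj'] at h3
      rw [C.ft_trFun]
      push_cast
      linear_combination -h3
    rcases eq_or_ne y 0 with rfl | hy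
    · rw [mul_zero]
    · rw [int_value (C.trFun O) hm h2 y hy,
        int_value (C.trFun O) hm h2 _ (mul_ne_zero u.ne_zero hy)]
  match i, j with
  | none, none => exact absurd rfl hij
  | none, some k => exact ⟨_, C.inv_ones, by rw [hJ]; exact hJ'⟩
  | some k, none => exact ⟨_, C.inv_ones, by rw [hJ]; exact hJ'.symm⟩
  | some none, some none => exact absurd rfl hij
  | some none, some (some q) => exact hmu q
  | some (some q), some none =>
    obtain ⟨Y, hY, h⟩ := hmu q
    exact ⟨Y, hY, h.symm⟩
  | some (some q), some (some q') =>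
    by_contra hall
    simp only [not_exists, not_and, ne_eq, not_not] at hall
    refine hij (congrArg (fun r => some (some r)) ?_)
    have hmem : q'.out⁻¹ * q.out ∈ C.mult := C.mem_mult_of q'.out.ne_zero fun O => by
      have h := hall _ (C.inv_adj O)
      rw [← Units.val_mul, mul_inv_cancel_left]
      exact h
    rw [← QuotientGroup.out_eq' q, ← QuotientGroup.out_eq' q']
    exact ((QuotientGroup.eq).2 hmem).symm

theorem chars_idem (hs : C.Split) (hne : C.mult ≠ ⊤) (i j : Option (Option C.Cls)) (hij : i ≠ j) :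
    C.chars j (C.idem (C.chars i)) = 0 := by
  obtain ⟨Y, hY, h⟩ := C.chars_separated hs hne hij
  exact (C.isChar_chars hs i).idem_other hs (C.isChar_chars hs j) hY h

theorem card_orb_ge (hs : C.Split) (hne : C.mult ≠ ⊤) :
    Fintype.card C.Cls + 2 ≤ Fintype.card C.Orb := by
  have hli : LinearIndependent ℂ (fun i => fun O => C.chars i (C.adj O)) := by
    rw [Fintype.linearIndependent_iff]
    intro c hc i
    have e : ∀ X, C.Inv X → ∑ j, c j * C.chars j X = 0 := by
      intro X hX
      calc ∑ j, c j * C.chars j X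
          = ∑ j, c j * ∑ O, X C.a₀ (C.rep O) * C.chars j (C.adj O) :=
            Finset.sum_congr rfl fun j _ => by rw [(C.isChar_chars hs j).apply_eq hX]
        _ = ∑ O, X C.a₀ (C.rep O) * (∑ j, c j * C.chars j (C.adj O)) := by
            simp only [Finset.mul_sum]
            rw [Finset.sum_comm]
            exact Finset.sum_congr rfl fun O _ => Finset.sum_congr rfl fun j _ => by ring
        _ = 0 := by
            refine Finset.sum_eq_zero fun O _ => ?_
            have h := congrFun hc O
            simp only [Finset.sum_apply, Pi.smul_apply, smul_eq_mul, Pi.zero_apply] at h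
            rw [h, mul_zero]
    have h := e _ (inv_idem (C := C) (χ := C.chars i))
    rw [Finset.sum_eq_single i (fun j _ hj => by rw [C.chars_idem hs hne i j hj.symm, mul_zero])
      (fun h => absurd (Finset.mem_univ i) h), (C.isChar_chars hs i).idem_self, mul_one] at h
    exact h
  have h := hli.fintype_card_le_finrank
  rwa [Module.finrank_fintype_fun_eq_card, Fintype.card_option, Fintype.card_option] at h

theorem split_lt (hs : C.Split) : (C.lam : ℚ) / (Fintype.card G : ℚ) < 3 := by
  rw [hs.1]
  push_cast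
  rw [mul_div_assoc, div_self (by exact_mod_cast Fintype.card_ne_zero), mul_one]
  norm_num

/-- A diagonal block cannot be invariant under all these multipliers. -/
theorem false_of_diag (hs : C.Split) (hne : C.mult ≠ ⊤)
    (hinv : ∀ u ∈ C.mult, ∀ y, C.orb false false ((u : ZMod p) * y) = C.orb false false y) :
    False := by
  have hsurj : Function.Surjective
      (fun o : Option C.Cls => o.elim C.base fun q => C.orb false false ((q.out : (ZMod p)ˣ) :)) := by
    intro O
    by_cases hO : O = C.base
    · exact ⟨none, hO.symm⟩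
    obtain ⟨y, hy⟩ := C.exists_orb (C.cnt_pos (C.split_lt hs) C.sum_muZ_sq hO).1
    have hy0 : y ≠ 0 := fun e => hO (by rw [← hy, C.orb_eq_base]; exact ⟨rfl, e⟩)
    refine ⟨some (QuotientGroup.mk (Units.mk0 y hy0)), ?_⟩
    obtain ⟨w, hw⟩ := QuotientGroup.mk_out_eq_mul C.mult (Units.mk0 y hy0)
    show C.orb false false (((QuotientGroup.mk (Units.mk0 y hy0) : C.Cls).out : (ZMod p)ˣ) :) = O
    rw [hw, mul_comm, Units.val_mul, hinv w w.2, Units.val_mk0, hy]
  have h1 := Fintype.card_le_of_surjective _ hsurj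
  rw [Fintype.card_option] at h1
  have := C.card_orb_ge hs hne
  omega

theorem orb_invariant_of_two (heq : ∀ y, C.orb true true y = C.orb false false y) :
    ∀ u ∈ C.mult, ∀ y, C.orb false false ((u : ZMod p) * y) = C.orb false false y := by
  intro u hu y
  have h := hu (C.orb false false y) y
  simp only [trFun, heq, if_true] at h
  by_contra hne
  rw [if_neg hne] at h
  norm_num at h

theorem phi_theta (hs : C.Split) (hne : C.mult ≠ ⊤) (q : C.Cls) (k : ZMod p) :
    C.phi (C.chars (some (some q))) (C.x ^ k.val) =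
      ∑ u ∈ Finset.univ.filter (fun u : (ZMod p)ˣ => (QuotientGroup.mk u : C.Cls) = q),
        ψ ((u : ZMod p) * k) := by
  have hF := inv_idem (C := C) (χ := C.chars (some (some q)))
  have hd : C.deg (C.idem (C.chars (some (some q)))) = 0 :=
    C.chars_idem hs hne (some (some q)) none (by simp)
  have hm : C.mu (C.idem (C.chars (some (some q)))) = 0 :=
    C.chars_idem hs hne (some (some q)) (some none) (by simp)
  rw [C.phi_xpow k, hd, hm, add_zero, zero_add]
  simp only [zero_add]
  have hval : ∀ u : (ZMod p)ˣ, C.theta (C.idem (C.chars (some (some q)))) (u : ZMod p) =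
      if (QuotientGroup.mk u : C.Cls) = q then 1 else 0 := by
    intro u
    rw [← thetaL_apply, ← C.theta_out hs u hF]
    show C.chars (some (some (QuotientGroup.mk u))) _ = _
    split_ifs with e
    · rw [e]; exact (C.isChar_chars hs _).idem_self
    · exact C.chars_idem hs hne _ _ (fun h => e (by simpa using h.symm))
  rw [Finset.sum_filter]
  refine (Finset.sum_bij (fun (u : (ZMod p)ˣ) _ => (u : ZMod p)) (fun u _ => ?_)
    (fun u _ w _ e => Units.ext e) (fun y hy => ?_) fun u _ => ?_).symm
  · simp [u.ne_zero]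
  · exact ⟨Units.mk0 y (Finset.ne_of_mem_erase hy), Finset.mem_univ _, rfl⟩
  · rw [hval]; split <;> simp

theorem phi_deg (hs : C.Split) (hne : C.mult ≠ ⊤) (k : ZMod p) :
    C.phi (C.chars none) (C.x ^ k.val) = 1 := by
  have hF := inv_idem (C := C) (χ := C.chars none)
  have hm : C.mu (C.idem (C.chars none)) = 0 :=
    C.chars_idem hs hne none (some none) (by simp)
  rw [C.phi_xpow k, hm, add_zero, Finset.sum_eq_zero, add_zero]
  · exact (C.isChar_chars hs none).idem_self
  · intro m hm'
    have h0 : C.theta (C.idem (C.chars none)) m = 0 := by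
      have := C.theta_out hs (Units.mk0 m (Finset.ne_of_mem_erase hm')) hF
      rw [Units.val_mk0, thetaL_apply C m] at this
      rw [← this]
      exact C.chars_idem hs hne none (some (some _)) (by simp)
    rw [h0, zero_add, zero_mul]

theorem sum_units_ψ {c : ZMod p} (hc : c ≠ 0) : ∑ u : (ZMod p)ˣ, ψ ((u : ZMod p) * c) = -1 := by
  have h : ∑ y ∈ Finset.univ.erase (0 : ZMod p), ψ (c * y) = -1 := by
    have := Finset.add_sum_erase Finset.univ (fun y : ZMod p => ψ (c * y)) (Finset.mem_univ 0)
    rw [mul_zero, AddChar.map_zero_eq_one, sum_ψ, if_neg hc] at this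
    linear_combination this
  rw [← h]
  refine Finset.sum_bij (fun (u : (ZMod p)ˣ) _ => (u : ZMod p)) (fun u _ => ?_)
    (fun u _ w _ e => Units.ext e) (fun y hy => ?_) fun u _ => by rw [mul_comm]
  · simp [u.ne_zero]
  · exact ⟨Units.mk0 y (Finset.ne_of_mem_erase hy), Finset.mem_univ _, rfl⟩

theorem sum_normSq :
    ∑ q : C.Cls, Complex.normSq (∑ u ∈ Finset.univ.filter
      (fun u : (ZMod p)ˣ => (QuotientGroup.mk u : C.Cls) = q), ψ ((u : ZMod p))) =
      (p : ℝ) - (Fintype.card C.mult : ℝ) := by
  rw [← Complex.ofReal_inj]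
  push_cast
  simp only [← Complex.mul_conj, map_sum, Finset.sum_mul_sum, conj_ψ, ← AddChar.map_add_eq_mul]
  have h1 : ∀ q : C.Cls, ∀ u ∈ Finset.univ.filter
      (fun u : (ZMod p)ˣ => (QuotientGroup.mk u : C.Cls) = q),
      (∑ w ∈ Finset.univ.filter (fun w : (ZMod p)ˣ => (QuotientGroup.mk w : C.Cls) = q),
        ψ ((u : ZMod p) + -(w : ZMod p))) =
      ∑ h : C.mult, ψ ((u : ZMod p) * (1 - ((h : (ZMod p)ˣ) : ZMod p))) := by
    intro q u hu
    have hq := (Finset.mem_filter.1 hu).2
    symm
    refine Finset.sum_bij (fun (h : C.mult) _ => u * (h : (ZMod p)ˣ)) (fun h _ => ?_)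
      (fun h _ h' _ e => Subtype.ext (mul_left_cancel e)) (fun w hw => ?_) fun h _ => ?_
    · refine Finset.mem_filter.2 ⟨Finset.mem_univ _, ?_⟩
      rw [← hq, eq_comm, QuotientGroup.eq, inv_mul_cancel_left]
      exact h.2
    · refine ⟨⟨u⁻¹ * w, QuotientGroup.eq.1 (hq.trans (Finset.mem_filter.1 hw).2.symm)⟩,
        Finset.mem_univ _, ?_⟩
      simp
    · congr 1
      push_cast
      ring
  rw [Finset.sum_congr rfl fun q _ => Finset.sum_congr rfl (h1 q),
    Finset.sum_fiberwise Finset.univ (fun u : (ZMod p)ˣ => (QuotientGroup.mk u : C.Cls))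
      fun u => ∑ h : C.mult, ψ ((u : ZMod p) * (1 - ((h : (ZMod p)ˣ) : ZMod p))), Finset.sum_comm,
    ← Finset.add_sum_erase _ _ (Finset.mem_univ (1 : C.mult))]
  have he : ∀ h ∈ (Finset.univ : Finset C.mult).erase 1,
      ∑ u : (ZMod p)ˣ, ψ ((u : ZMod p) * (1 - ((h : (ZMod p)ˣ) : ZMod p))) = -1 := fun h hh =>
    sum_units_ψ (fun e => Finset.ne_of_mem_erase hh (Subtype.ext (Units.ext (sub_eq_zero.1 e).symm)))
  rw [Finset.sum_congr rfl he]
  simp only [OneMemClass.coe_one, Units.val_one, sub_self, mul_zero, AddChar.map_zero_eq_one,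
    Finset.sum_const, Finset.card_univ, ZMod.card_units, Finset.card_erase_of_mem (Finset.mem_univ _),
    nsmul_eq_mul, mul_one]
  rw [Nat.cast_sub hp.out.one_le, Nat.cast_sub Fintype.card_pos]
  push_cast
  ring

theorem card_bound (hne : C.mult ≠ ⊤) : 2 * Fintype.card C.mult + 1 ≤ p := by
  have h := C.mult.index_mul_card
  rw [Nat.card_eq_fintype_card, Nat.card_eq_fintype_card, ZMod.card_units] at h
  have h2 : 2 ≤ C.mult.index := by
    have := Subgroup.index_ne_zero_of_finite (H := C.mult)
    rcases Nat.lt_or_ge C.mult.index 2 with h3 | h3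
    · exact absurd (Subgroup.index_eq_one.1 (by omega)) hne
    · exact h3
  have := Nat.mul_le_mul_right (Fintype.card C.mult) h2
  have := hp.out.pos
  omega

/-- Fusion of powers of `x` by an element of small centraliser. -/
theorem exists_conj (hs : C.Split) (hne : C.mult ≠ ⊤)
    (hcent : Nat.card (Subgroup.centralizer ({C.x} : Set G)) = p)
    {σ : (ZMod p)ˣ} (hσ : σ ∈ C.mult) :
    ∃ h : G, h * C.x * h⁻¹ = C.x ^ (σ : ZMod p).val := by
  by_contra hcon
  simp only [not_exists] at hcon
  set y := C.x ^ (σ : ZMod p).val with hy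
  set c₁ : Finset G := Finset.univ.filter (fun g => IsConj C.x g)
  set c₂ : Finset G := Finset.univ.filter (fun g => IsConj y g)
  have hdisj : Disjoint c₁ c₂ := by
    rw [Finset.disjoint_left]
    intro g h1 h2
    obtain ⟨h, hh⟩ := isConj_iff.1 ((Finset.mem_filter.1 h1).2.trans (Finset.mem_filter.1 h2).2.symm)
    exact hcon h hh
  have hclass : ∀ g : G, Nat.card (Subgroup.centralizer ({g} : Set G)) = p →
      (Finset.univ.filter (fun k => IsConj g k)).card * p = Fintype.card G := by
    intro g hg
    have h := CfsgLib.Characters.card_isConj_mul_card_centralizer g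
    rw [hg, Nat.card_eq_fintype_card, Nat.card_eq_fintype_card, Fintype.card_subtype] at h
    exact h
  have hc1 := hclass _ hcent
  have hycent : Subgroup.centralizer ({y} : Set G) = Subgroup.centralizer ({C.x} : Set G) := by
    have hxy : C.x = y ^ ((σ⁻¹ : (ZMod p)ˣ) : ZMod p).val := by
      rw [hy, ← pow_mul, pow_eq_pow_mod _ C.x_pow_p, ← ZMod.val_mul, ← Units.val_mul,
        mul_inv_cancel, Units.val_one, ZMod.val_one, pow_one]
    ext g
    simp only [Subgroup.mem_centralizer_singleton_iff]
    constructor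
    · intro h; rw [hxy]; exact Commute.pow_right h _
    · intro h; rw [hy]; exact Commute.pow_right h _
  have hc2 := hclass y (by rw [hycent]; exact hcent)
  have hcard : c₁.card = c₂.card := Nat.eq_of_mul_eq_mul_right hp.out.pos (hc1.trans hc2.symm)
  have hsum : ∀ i, ∑ g ∈ c₁ ∪ c₂, C.phi (C.chars i) g =
      (c₁.card : ℂ) * (C.phi (C.chars i) C.x + C.phi (C.chars i) y) := by
    intro i
    rw [Finset.sum_union hdisj]
    have e : ∀ z : G, ∀ g ∈ Finset.univ.filter (fun g => IsConj z g),
        C.phi (C.chars i) g = C.phi (C.chars i) z := by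
      intro z g hg
      obtain ⟨h, rfl⟩ := isConj_iff.1 (Finset.mem_filter.1 hg).2
      exact phi_conj z h
    rw [Finset.sum_congr rfl (e C.x), Finset.sum_congr rfl (e y), Finset.sum_const, Finset.sum_const,
      nsmul_eq_mul, nsmul_eq_mul, ← hcard]
    ring
  have hb := bessel C.chars hs (C.isChar_chars hs) (C.chars_idem hs hne) (c₁ ∪ c₂)
  rw [Finset.card_union_of_disjoint hdisj, ← hcard, ← hc1] at hb
  simp only [hsum, map_mul, Complex.normSq_natCast, ← Finset.mul_sum] at hb
  have hx1 : C.x = C.x ^ (1 : ZMod p).val := by rw [ZMod.val_one, pow_one]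
  have hlow : 4 * (1 + ((p : ℝ) - Fintype.card C.mult)) ≤
      ∑ i, Complex.normSq (C.phi (C.chars i) C.x + C.phi (C.chars i) y) := by
    rw [Fintype.sum_option, Fintype.sum_option, mul_add, mul_one, ← C.sum_normSq, Finset.mul_sum]
    refine add_le_add ?_ (le_add_of_nonneg_of_le (Complex.normSq_nonneg _)
      (Finset.sum_le_sum fun q _ => le_of_eq ?_))
    · have e1 := C.phi_deg hs hne 1
      rw [← hx1] at e1
      rw [hy, C.phi_deg hs hne, e1]
      norm_num
    · have e1 := C.phi_theta hs hne q 1
      rw [← hx1] at e1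
      rw [hy, C.phi_theta hs hne, e1]
      simp only [mul_one]
      have e : ∑ u ∈ Finset.univ.filter (fun u : (ZMod p)ˣ => (QuotientGroup.mk u : C.Cls) = q),
          ψ ((u : ZMod p) * (σ : ZMod p)) =
          ∑ u ∈ Finset.univ.filter (fun u : (ZMod p)ˣ => (QuotientGroup.mk u : C.Cls) = q),
          ψ (u : ZMod p) := by
        refine Finset.sum_equiv (Equiv.mulRight σ) (fun u => ?_) fun u _ => ?_
        · simp only [Finset.mem_filter, Finset.mem_univ, true_and, Equiv.coe_mulRight]
          rw [QuotientGroup.mk_mul_of_mem u hσ]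
        · simp
      rw [e, ← two_mul, map_mul]
      norm_num
  have hc0 : (0 : ℝ) < c₁.card := by
    exact_mod_cast Finset.card_pos.2 ⟨C.x, Finset.mem_filter.2 ⟨Finset.mem_univ _, IsConj.refl _⟩⟩
  have hfp : (2 * (Fintype.card C.mult : ℝ) + 1) ≤ p := by exact_mod_cast C.card_bound hne
  push_cast at hb
  have h4 := mul_le_mul_of_nonneg_left hlow (mul_nonneg hc0.le hc0.le)
  nlinarith [mul_pos hc0 hc0]

end CfsgLib.PermSmall.DoublePrime.Frame
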