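import Cfsg.Agent.Lib.PermSmall.DoublePrime.Fourier

/-!
Invariant matrices of a group containing a semiregular element of prime order with two orbits.
-/

set_option autoImplicit false
set_option linter.unusedSectionVars false

noncomputable section

namespace CfsgLib.PermSmall.DoublePrime

open MulAction
open scoped Classical ComplexConjugate Matrix

/-- Coordinates adapted to an element of order `p` with two orbits. -/
structure Frame {α : Type*} (G : Subgroup (Equiv.Perm α)) (p : ℕ) where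
  a₀ : α
  e : α ≃ Bool × ZMod p
  e_a₀ : e a₀ = (false, 0)
  x : G
  x_smul : ∀ i y, x • e.symm (i, y) = e.symm (i, y + 1)
  trans : IsPretransitive G α

namespace Frame

variable {α : Type*} [Fintype α] [DecidableEq α] {G : Subgroup (Equiv.Perm α)} {p : ℕ}
  [hp : Fact p.Prime] (C : Frame G p)

/-- The points. -/
def pt (i : Bool) (y : ZMod p) : α := C.e.symm (i, y)

theorem pt_zero : C.pt false 0 = C.a₀ := by rw [pt, ← C.e_a₀, Equiv.symm_apply_apply]

theorem exists_pt (a : α) : ∃ i y, a = C.pt i y :=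
  ⟨(C.e a).1, (C.e a).2, by rw [pt, Prod.mk.eta, Equiv.symm_apply_apply]⟩

theorem pt_inj {i j : Bool} {y z : ZMod p} : C.pt i y = C.pt j z ↔ i = j ∧ y = z := by
  simp [pt]

theorem xpow_pt (n : ℕ) (i : Bool) (y : ZMod p) : (C.x ^ n) • C.pt i y = C.pt i (y + n) := by
  induction n with
  | zero => simp
  | succ n ih =>
    rw [pow_succ', mul_smul, ih, pt, C.x_smul, pt]
    push_cast
    ring_nf

include C in
theorem card_α : Fintype.card α = 2 * p := by
  rw [Fintype.card_congr C.e, Fintype.card_prod, Fintype.card_bool, ZMod.card]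

theorem sum_pt {M : Type*} [AddCommMonoid M] (f : α → M) :
    ∑ a, f a = (∑ y, f (C.pt false y)) + ∑ y, f (C.pt true y) := by
  rw [← C.e.symm.sum_comp f, Fintype.sum_prod_type, Fintype.sum_bool, add_comm]
  rfl

/-- Invariance. -/
def Inv (_C : Frame G p) (X : Matrix α α ℂ) : Prop := ∀ (g : G) (a b : α), X (g • a) (g • b) = X a b

theorem inv_one : C.Inv 1 := fun g a b => by simp [Matrix.one_apply]

theorem inv_ones : C.Inv (Matrix.of fun _ _ => 1) := fun _ _ _ => rfl

theorem inv_mul {X Y : Matrix α α ℂ} (hX : C.Inv X) (hY : C.Inv Y) : C.Inv (X * Y) := by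
  intro g a b
  rw [Matrix.mul_apply, Matrix.mul_apply]
  refine (Fintype.sum_equiv (MulAction.toPerm g) _ _ fun c => ?_).symm
  simp [hX g, hY g]

theorem inv_add {X Y : Matrix α α ℂ} (hX : C.Inv X) (hY : C.Inv Y) : C.Inv (X + Y) :=
  fun g a b => by simp [hX g, hY g]

theorem inv_sub {X Y : Matrix α α ℂ} (hX : C.Inv X) (hY : C.Inv Y) : C.Inv (X - Y) :=
  fun g a b => by simp [hX g, hY g]

theorem inv_smul {X : Matrix α α ℂ} (hX : C.Inv X) (c : ℂ) : C.Inv (c • X) :=
  fun g a b => by simp [hX g]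

theorem inv_transpose {X : Matrix α α ℂ} (hX : C.Inv X) : C.Inv Xᵀ := fun g a b => hX g b a

theorem inv_adjoint {X : Matrix α α ℂ} (hX : C.Inv X) : C.Inv Xᴴ := fun g a b => by
  simp [hX g]

/-- Blocks. -/
def blk (X : Matrix α α ℂ) (i j : Bool) (y : ZMod p) : ℂ := X (C.pt i 0) (C.pt j y)

theorem apply_pt {X : Matrix α α ℂ} (hX : C.Inv X) (i j : Bool) (a b : ZMod p) :
    X (C.pt i a) (C.pt j b) = C.blk X i j (b - a) := by
  rw [blk, ← hX (C.x ^ a.val) (C.pt i 0) (C.pt j (b - a)), C.xpow_pt, C.xpow_pt,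
    ZMod.natCast_zmod_val, zero_add, sub_add_cancel]

/-- The `2 × 2` matrix of an invariant matrix at a character. -/
def BM (X : Matrix α α ℂ) (m : ZMod p) : Matrix Bool Bool ℂ := fun i j => ft (C.blk X i j) m

theorem BM_injective {X Y : Matrix α α ℂ} (hX : C.Inv X) (hY : C.Inv Y)
    (h : ∀ m, C.BM X m = C.BM Y m) : X = Y := by
  ext a b
  obtain ⟨i, y, rfl⟩ := C.exists_pt a
  obtain ⟨j, z, rfl⟩ := C.exists_pt b
  rw [C.apply_pt hX, C.apply_pt hY,
    ft_injective fun m => congrFun (congrFun (h m) i) j]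

theorem BM_mul {X Y : Matrix α α ℂ} (_hX : C.Inv X) (hY : C.Inv Y) (m : ZMod p) :
    C.BM (X * Y) m = C.BM X m * C.BM Y m := by
  ext i j
  rw [Matrix.mul_apply, Fintype.sum_bool]
  have hblk : ∀ y, C.blk (X * Y) i j y =
      (∑ z, C.blk X i true z * C.blk Y true j (y - z)) +
        ∑ z, C.blk X i false z * C.blk Y false j (y - z) := by
    intro y
    rw [blk, Matrix.mul_apply, C.sum_pt, add_comm]
    refine congrArg₂ _ (Finset.sum_congr rfl fun z _ => ?_) (Finset.sum_congr rfl fun z _ => ?_) <;>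
      rw [C.apply_pt hY] <;> rfl
  have key : ∀ f g : ZMod p → ℂ, (∑ y, (∑ z, f z * g (y - z)) * ψ (m * y)) = ft f m * ft g m := by
    intro f g
    simp only [Finset.sum_mul]
    rw [Finset.sum_comm, ft, ft, Finset.sum_mul]
    refine Finset.sum_congr rfl fun z _ => ?_
    rw [Finset.mul_sum]
    refine Fintype.sum_equiv (Equiv.subRight z) _ _ fun y => ?_
    simp only [Equiv.subRight_apply]
    rw [show m * y = m * z + m * (y - z) by ring, AddChar.map_add_eq_mul]
    ring
  simp only [BM]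
  rw [← key, ← key, ft]
  simp only [hblk, add_mul, Finset.sum_add_distrib]

theorem BM_one (m : ZMod p) : C.BM 1 m = 1 := by
  ext i j
  rcases eq_or_ne i j with rfl | h
  · simp [BM, blk, ft, Matrix.one_apply, pt_inj, @eq_comm (ZMod p) 0]
  · simp [BM, blk, ft, Matrix.one_apply, pt_inj, h]

theorem BM_add (X Y : Matrix α α ℂ) (m : ZMod p) : C.BM (X + Y) m = C.BM X m + C.BM Y m := by
  ext i j; exact ft_add _ _ m

theorem BM_sub (X Y : Matrix α α ℂ) (m : ZMod p) : C.BM (X - Y) m = C.BM X m - C.BM Y m := by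
  ext i j; exact ft_sub _ _ m

theorem BM_smul (c : ℂ) (X : Matrix α α ℂ) (m : ZMod p) : C.BM (c • X) m = c • C.BM X m := by
  ext i j
  simp [BM, blk, ft, Finset.mul_sum, mul_assoc]

theorem blk_swap {X : Matrix α α ℂ} (hX : C.Inv X) (i j : Bool) (y : ZMod p) :
    C.blk Xᵀ i j y = C.blk X j i (-y) := by
  rw [blk, Matrix.transpose_apply, C.apply_pt hX, zero_sub]

theorem BM_transpose {X : Matrix α α ℂ} (hX : C.Inv X) (m : ZMod p) :
    C.BM Xᵀ m = (C.BM X (-m))ᵀ := by
  ext i j
  show ft (C.blk Xᵀ i j) m = ft (C.blk X j i) (-m)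
  rw [← ft_comp_neg]
  exact congrArg (fun f => ft f m) (funext fun y => C.blk_swap hX i j y)

theorem BM_adjoint {X : Matrix α α ℂ} (hX : C.Inv X) (m : ZMod p) :
    C.BM Xᴴ m = (C.BM X m)ᴴ := by
  ext i j
  show ft (C.blk Xᴴ i j) m = conj (ft (C.blk X j i) m)
  rw [← ft_conj]
  refine congrArg (fun f => ft f m) (funext fun y => ?_)
  rw [blk, Matrix.conjTranspose_apply, C.apply_pt hX, zero_sub, Complex.star_def]

theorem row_sum {X : Matrix α α ℂ} (i : Bool) :
    ∑ b, X (C.pt i 0) b = C.BM X 0 i false + C.BM X 0 i true := by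
  simp [C.sum_pt, BM, blk, ft_zero']

theorem col_sum {X : Matrix α α ℂ} (hX : C.Inv X) (j : Bool) :
    ∑ a, X a (C.pt j 0) = C.BM X 0 false j + C.BM X 0 true j := by
  rw [C.sum_pt]
  simp only [BM, ft_zero', C.apply_pt hX, zero_sub]
  congr 1 <;> exact Fintype.sum_equiv (Equiv.neg _) _ _ fun y => rfl

/-- The valency. -/
def deg (X : Matrix α α ℂ) : ℂ := C.BM X 0 false false + C.BM X 0 false true

/-- The eigenvalue at the vector separating the two orbits of `x`. -/
def mu (X : Matrix α α ℂ) : ℂ := C.BM X 0 false false - C.BM X 0 false true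

theorem row_const {X : Matrix α α ℂ} (hX : C.Inv X) (a a' : α) :
    ∑ b, X a b = ∑ b, X a' b := by
  haveI := C.trans
  obtain ⟨g, rfl⟩ := exists_smul_eq G a a'
  exact Fintype.sum_equiv (MulAction.toPerm g) _ _ fun b => (hX g a b).symm

theorem BM_zero_symm {X : Matrix α α ℂ} (hX : C.Inv X) :
    C.BM X 0 true true = C.BM X 0 false false ∧ C.BM X 0 true false = C.BM X 0 false true := by
  have hr := C.row_const hX (C.pt false 0) (C.pt true 0)
  have hc := C.row_const (C.inv_transpose hX) (C.pt false 0) (C.pt true 0)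
  simp only [Matrix.transpose_apply] at hc
  rw [C.row_sum, C.row_sum] at hr
  rw [C.col_sum hX, C.col_sum hX] at hc
  have htot : (∑ a, ∑ b, X a b) = ∑ a, ∑ b, X b a := Finset.sum_comm
  have key : ∀ a, ∑ b, X b a = ∑ b, X b (C.pt false 0) := fun a =>
    C.row_const (C.inv_transpose hX) a (C.pt false 0)
  rw [Finset.sum_congr rfl (fun a _ => C.row_const hX a (C.pt false 0))] at htot
  simp only [key, Finset.sum_const, Finset.card_univ, nsmul_eq_mul] at htot
  have h2 : ((Fintype.card α : ℕ) : ℂ) ≠ 0 := by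
    rw [C.card_α]; exact_mod_cast (Nat.mul_pos two_pos hp.out.pos).ne'
  have htot' := mul_left_cancel₀ h2 htot
  rw [C.row_sum, C.col_sum hX] at htot'
  constructor
  · linear_combination (-1 / 2 : ℂ) * hr - (1 / 2) * hc
  · linear_combination -htot'

theorem deg_eq {X : Matrix α α ℂ} : C.deg X = ∑ b, X C.a₀ b := by
  rw [← C.pt_zero, C.row_sum]; rfl

theorem deg_mul {X Y : Matrix α α ℂ} (hX : C.Inv X) (hY : C.Inv Y) :
    C.deg (X * Y) = C.deg X * C.deg Y := by
  obtain ⟨h1, h2⟩ := C.BM_zero_symm hY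
  simp only [deg, C.BM_mul hX hY, Matrix.mul_apply, Fintype.sum_bool, h1, h2]
  ring

theorem mu_mul {X Y : Matrix α α ℂ} (hX : C.Inv X) (hY : C.Inv Y) :
    C.mu (X * Y) = C.mu X * C.mu Y := by
  obtain ⟨h1, h2⟩ := C.BM_zero_symm hY
  simp only [mu, C.BM_mul hX hY, Matrix.mul_apply, Fintype.sum_bool, h1, h2]
  ring

theorem mu_transpose {X : Matrix α α ℂ} (hX : C.Inv X) : C.mu Xᵀ = C.mu X := by
  obtain ⟨-, h2⟩ := C.BM_zero_symm hX
  simp only [mu, C.BM_transpose hX, neg_zero, Matrix.transpose_apply, h2]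

theorem mu_adjoint {X : Matrix α α ℂ} (hX : C.Inv X) : C.mu Xᴴ = conj (C.mu X) := by
  obtain ⟨-, h2⟩ := C.BM_zero_symm hX
  simp only [mu, C.BM_adjoint hX, Matrix.conjTranspose_apply, map_sub, Complex.star_def, h2]

theorem deg_adjoint {X : Matrix α α ℂ} (hX : C.Inv X) : C.deg Xᴴ = conj (C.deg X) := by
  obtain ⟨-, h2⟩ := C.BM_zero_symm hX
  simp only [deg, C.BM_adjoint hX, Matrix.conjTranspose_apply, map_add, Complex.star_def, h2]

/-- The vector separating the two orbits of `x`. -/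
def v (a : α) : ℤ := if (C.e a).1 then -1 else 1

theorem v_pt (i : Bool) (y : ZMod p) : C.v (C.pt i y) = if i then -1 else 1 := by
  simp [v, pt]

theorem mul_v {X : Matrix α α ℂ} (hX : C.Inv X) (a : α) :
    ∑ b, X a b * (C.v b : ℂ) = C.mu X * (C.v a : ℂ) := by
  obtain ⟨i, y, rfl⟩ := C.exists_pt a
  obtain ⟨h1, h2⟩ := C.BM_zero_symm hX
  have hs : ∀ j, ∑ z, X (C.pt i y) (C.pt j z) = C.BM X 0 i j := by
    intro j
    simp only [BM, ft_zero', C.apply_pt hX]
    exact Fintype.sum_equiv (Equiv.subRight y) _ _ fun z => rfl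
  simp only [C.sum_pt, v_pt, Bool.false_eq_true, if_false, if_true, Int.cast_one, mul_one,
    Int.cast_neg, mul_neg, Finset.sum_neg_distrib, hs]
  cases i
  · simp only [Bool.false_eq_true, if_false, mu]; push_cast; ring
  · simp only [if_true, mu, h1, h2]; push_cast; ring

/-- The orbits of the point stabiliser. -/
abbrev Orb := orbitRel.Quotient (stabilizer G C.a₀) α

/-- An element moving `a₀` to a given point. -/
def mv (a : α) : G := (C.trans.exists_smul_eq C.a₀ a).choose

theorem mv_spec (a : α) : C.mv a • C.a₀ = a := (C.trans.exists_smul_eq C.a₀ a).choose_spec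

/-- The orbital of a pair of points. -/
def rel (a b : α) : C.Orb := Quotient.mk (orbitRel (stabilizer G C.a₀) α) ((C.mv a)⁻¹ • b)

theorem rel_of_smul {g : G} {a : α} (hg : g • C.a₀ = a) (b : α) :
    C.rel a b = Quotient.mk (orbitRel (stabilizer G C.a₀) α) (g⁻¹ • b) := by
  refine Quotient.sound ⟨⟨(C.mv a)⁻¹ * g, ?_⟩, ?_⟩
  · rw [mem_stabilizer_iff, mul_smul, hg, inv_smul_eq_iff, C.mv_spec]
  · show ((C.mv a)⁻¹ * g) • g⁻¹ • b = (C.mv a)⁻¹ • b
    rw [mul_smul, smul_inv_smul]

theorem rel_smul (g : G) (a b : α) : C.rel (g • a) (g • b) = C.rel a b := by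
  rw [C.rel_of_smul (show (g * C.mv a) • C.a₀ = g • a by rw [mul_smul, C.mv_spec]),
    mul_inv_rev, mul_smul, inv_smul_smul]
  rfl

theorem rel_base (b : α) : C.rel C.a₀ b = Quotient.mk (orbitRel (stabilizer G C.a₀) α) b := by
  rw [C.rel_of_smul (one_smul G C.a₀)]
  simp

/-- The diagonal orbital. -/
def base : C.Orb := C.rel C.a₀ C.a₀

theorem rel_self (a : α) : C.rel a a = C.base := by
  conv_lhs => rw [← C.mv_spec a, C.rel_smul]
  rfl

theorem rel_eq_base {a b : α} : C.rel a b = C.base ↔ a = b := by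
  refine ⟨fun h => ?_, fun h => h ▸ C.rel_self a⟩
  have h' : C.rel a b = C.rel C.a₀ C.a₀ := h
  rw [C.rel_base] at h'
  obtain ⟨⟨k, hk⟩, hk'⟩ := Quotient.exact h'
  have hk2 : k • C.a₀ = (C.mv a)⁻¹ • b := hk'
  rw [mem_stabilizer_iff.1 hk, eq_inv_smul_iff, C.mv_spec] at hk2
  exact hk2

theorem rel_transpose {a b a' b' : α} (h : C.rel a b = C.rel a' b') :
    C.rel b a = C.rel b' a' := by
  obtain ⟨⟨k, hk⟩, hk'⟩ := Quotient.exact h
  have hk2 : k • (C.mv a')⁻¹ • b' = (C.mv a)⁻¹ • b := hk'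
  have hg : (C.mv a * k * (C.mv a')⁻¹) • a' = a := by
    rw [mul_smul, mul_smul, inv_smul_eq_iff.2 (C.mv_spec a').symm, mem_stabilizer_iff.1 hk,
      C.mv_spec]
  have hb : (C.mv a * k * (C.mv a')⁻¹) • b' = b := by
    rw [mul_smul, mul_smul, hk2, smul_inv_smul]
  rw [← C.rel_smul (C.mv a * k * (C.mv a')⁻¹) b' a', hb, hg]

/-- A representative. -/
def rep (O : C.Orb) : α := O.out

theorem rel_rep (O : C.Orb) : C.rel C.a₀ (C.rep O) = O := by
  rw [C.rel_base]; exact Quotient.out_eq O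

/-- The adjacency matrix of an orbital. -/
def adj (O : C.Orb) : Matrix α α ℂ := Matrix.of fun a b => if C.rel a b = O then 1 else 0

theorem inv_adj (O : C.Orb) : C.Inv (C.adj O) := fun g a b => by
  simp [adj, C.rel_smul]

theorem adj_base : C.adj C.base = 1 := by
  ext a b
  simp [adj, C.rel_eq_base, Matrix.one_apply]

theorem expand {X : Matrix α α ℂ} (hX : C.Inv X) :
    X = ∑ O, X C.a₀ (C.rep O) • C.adj O := by
  ext a b
  simp only [Matrix.sum_apply, Matrix.smul_apply, adj, Matrix.of_apply, smul_eq_mul, mul_ite,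
    mul_one, mul_zero, Finset.sum_ite_eq, Finset.mem_univ, if_true]
  have h : C.rel C.a₀ ((C.mv a)⁻¹ • b) = C.rel a b := by rw [C.rel_base]; rfl
  obtain ⟨⟨k, hk⟩, hk'⟩ := Quotient.exact
    ((C.rel_base _).symm.trans ((C.rel_rep (C.rel a b)).trans h.symm) |>.trans (C.rel_base _))
  have hk2 : k • (C.mv a)⁻¹ • b = C.rep (C.rel a b) := hk'
  rw [← hk2]
  conv_rhs => arg 1; rw [← mem_stabilizer_iff.1 hk]
  rw [hX k]
  conv_rhs => rw [← hX (C.mv a), C.mv_spec, smul_inv_smul]

/-- The subdegree of an orbital. -/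
def size (O : C.Orb) : ℕ := (Finset.univ.filter fun b => C.rel C.a₀ b = O).card

theorem deg_adj (O : C.Orb) : C.deg (C.adj O) = (C.size O : ℂ) := by
  rw [C.deg_eq, size, Finset.card_filter]
  simp [adj]

/-- The number of points of an orbital in one block. -/
def cnt (i j : Bool) (O : C.Orb) : ℕ :=
  (Finset.univ.filter fun y => C.rel (C.pt i 0) (C.pt j y) = O).card

theorem BM_adj_zero (i j : Bool) (O : C.Orb) :
    C.BM (C.adj O) 0 i j = (C.cnt i j O : ℂ) := by
  simp only [BM, ft_zero', cnt, Finset.card_filter, blk, adj, Matrix.of_apply]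
  push_cast
  rfl

theorem cnt_true (O : C.Orb) :
    C.cnt true true O = C.cnt false false O ∧ C.cnt true false O = C.cnt false true O := by
  obtain ⟨h1, h2⟩ := C.BM_zero_symm (C.inv_adj O)
  simp only [C.BM_adj_zero, Nat.cast_inj] at h1 h2
  exact ⟨h1, h2⟩

theorem size_eq (O : C.Orb) : C.size O = C.cnt false false O + C.cnt false true O := by
  have h := C.deg_adj O
  rw [deg, C.BM_adj_zero, C.BM_adj_zero] at h
  exact_mod_cast h.symm

theorem mu_adj (O : C.Orb) :
    C.mu (C.adj O) = (((C.cnt false false O : ℤ) - C.cnt false true O : ℤ) : ℂ) := by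
  rw [mu, C.BM_adj_zero, C.BM_adj_zero]
  push_cast
  rfl

end Frame

end CfsgLib.PermSmall.DoublePrime
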