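import Cfsg.Agent.Lib.PermSmall.DoublePrime.Setup

/-!
The submodule spanned by the conjugates of the vector separating the two orbits.
-/

set_option autoImplicit false
set_option linter.unusedSectionVars false

noncomputable section

namespace CfsgLib.PermSmall.DoublePrime.Frame

open MulAction
open scoped Classical ComplexConjugate Matrix

variable {α : Type*} [Fintype α] [DecidableEq α] {G : Subgroup (Equiv.Perm α)} {p : ℕ}
  [hp : Fact p.Prime] (C : Frame G p)

/-- The Gram matrix of the conjugates. -/
def gram (a b : α) : ℤ := ∑ g : G, C.v (g⁻¹ • a) * C.v (g⁻¹ • b)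

/-- The complex Gram matrix. -/
def gramC : Matrix α α ℂ := Matrix.of fun a b => (C.gram a b : ℂ)

theorem gram_smul (h : G) (a b : α) : C.gram (h • a) (h • b) = C.gram a b := by
  refine Fintype.sum_equiv (Equiv.mulLeft h⁻¹) _ _ fun g => ?_
  simp [mul_smul]

theorem inv_gram : C.Inv C.gramC := fun g a b => by simp [gramC, C.gram_smul]

theorem gram_symm (a b : α) : C.gram a b = C.gram b a :=
  Finset.sum_congr rfl fun _ _ => mul_comm _ _

theorem gram_transpose : C.gramCᵀ = C.gramC := by
  ext a b; simp [gramC, C.gram_symm a b]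

theorem v_mul_self (a : α) : C.v a * C.v a = 1 := by
  rw [v]; split <;> norm_num

theorem gram_self (a : α) : C.gram a a = Fintype.card G := by
  simp [gram, C.v_mul_self, ← Nat.card_eq_fintype_card]

theorem mul_gram {X : Matrix α α ℂ} (hX : C.Inv X) : X * C.gramC = C.mu X • C.gramC := by
  ext a b
  simp only [Matrix.mul_apply, gramC, Matrix.of_apply, gram, Matrix.smul_apply, smul_eq_mul]
  push_cast
  simp only [Finset.mul_sum]
  rw [Finset.sum_comm]
  refine Finset.sum_congr rfl fun g _ => ?_
  rw [← mul_assoc, ← C.mul_v hX (g⁻¹ • a), Finset.sum_mul]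
  refine Fintype.sum_equiv (MulAction.toPerm g⁻¹) _ _ fun c => ?_
  simp only [MulAction.toPerm_apply, hX g⁻¹]
  ring

theorem gram_mul {X : Matrix α α ℂ} (hX : C.Inv X) : C.gramC * X = C.mu X • C.gramC := by
  have h := congrArg Matrix.transpose (C.mul_gram (C.inv_transpose hX))
  rwa [Matrix.transpose_mul, Matrix.transpose_transpose, Matrix.transpose_smul, C.gram_transpose,
    C.mu_transpose hX] at h

/-- The eigenvalue of the Gram matrix. -/
def lam : ℤ := ∑ b, C.gram C.a₀ b * C.v b

theorem mu_gram : C.mu C.gramC = (C.lam : ℂ) := by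
  have h := C.mul_v C.inv_gram C.a₀
  rw [show C.v C.a₀ = 1 by rw [← C.pt_zero, C.v_pt]; rfl, Int.cast_one, mul_one] at h
  rw [← h, lam]
  push_cast
  rfl

theorem sum_v : ∑ a, C.v a = 0 := by
  simp [C.sum_pt, C.v_pt]

theorem deg_gram : C.deg C.gramC = 0 := by
  rw [C.deg_eq]
  simp only [gramC, Matrix.of_apply, gram]
  push_cast
  rw [Finset.sum_comm]
  refine Finset.sum_eq_zero fun g _ => ?_
  rw [← Finset.mul_sum,
    show (∑ b, (C.v (g⁻¹ • b) : ℂ)) = ((∑ b, C.v b : ℤ) : ℂ) by
      push_cast
      exact Fintype.sum_equiv (MulAction.toPerm g⁻¹) _ _ fun b => rfl,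
    C.sum_v, Int.cast_zero, mul_zero]

theorem sum_sq_eq :
    ∑ g : G, (∑ a, C.v (g⁻¹ • a) * C.v a) ^ 2 = 2 * (p : ℤ) * C.lam := by
  have h : ∀ a, ∑ b, C.gram a b * C.v b = C.lam * C.v a := by
    intro a
    have h := C.mul_v C.inv_gram a
    rw [C.mu_gram] at h
    simp only [gramC, Matrix.of_apply] at h
    exact_mod_cast h
  have h2 : ∑ g : G, (∑ a, C.v (g⁻¹ • a) * C.v a) ^ 2 =
      ∑ a, (∑ b, C.gram a b * C.v b) * C.v a := by
    simp only [sq, gram, Finset.sum_mul, Finset.mul_sum]
    rw [Finset.sum_comm]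
    refine Finset.sum_congr rfl fun a _ => ?_
    rw [Finset.sum_comm]
    exact Finset.sum_congr rfl fun b _ => Finset.sum_congr rfl fun g _ => by ring
  rw [h2]
  simp only [h, mul_assoc, C.v_mul_self, Finset.sum_const, Finset.card_univ, C.card_α]
  simp
  ring

theorem lam_pos : 0 < C.lam := by
  have h1 : (2 * (p : ℤ)) ^ 2 ≤ ∑ g : G, (∑ a, C.v (g⁻¹ • a) * C.v a) ^ 2 := by
    refine le_trans (le_of_eq ?_) (Finset.single_le_sum
      (fun g _ => sq_nonneg (∑ a, C.v (g⁻¹ • a) * C.v a)) (Finset.mem_univ (1 : G)))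
    simp [C.v_mul_self, C.card_α]
  rw [C.sum_sq_eq] at h1
  have hp' : (0 : ℤ) < p := by exact_mod_cast hp.out.pos
  by_contra h
  nlinarith

theorem lamC_ne : (C.lam : ℂ) ≠ 0 := by exact_mod_cast C.lam_pos.ne'

/-- The transform of the Gram matrix squared. -/
theorem BM_gram_sq (m : ZMod p) :
    C.BM C.gramC m * C.BM C.gramC m = (C.lam : ℂ) • C.BM C.gramC m := by
  rw [← C.BM_mul C.inv_gram C.inv_gram, C.mul_gram C.inv_gram, C.mu_gram, C.BM_smul]

/-- The integral trace function of the Gram matrix. -/
def gramTr (y : ZMod p) : ℤ :=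
  C.gram (C.pt false 0) (C.pt false y) + C.gram (C.pt true 0) (C.pt true y)

theorem ft_gramTr (m : ZMod p) : ft (fun y => (C.gramTr y : ℂ)) m =
    C.BM C.gramC m false false + C.BM C.gramC m true true := by
  simp only [BM]
  rw [← ft_add]
  refine congrArg (fun f => ft f m) (funext fun y => ?_)
  simp [gramTr, blk, gramC]

/-- The submodule meets each non-trivial eigenspace of `x` in a line. -/
def Split : Prop :=
  C.lam = 2 * (Fintype.card G : ℤ) ∧
    ∀ m : ZMod p, m ≠ 0 → C.BM C.gramC m false false + C.BM C.gramC m true true = (C.lam : ℂ)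

theorem trichotomy :
    C.lam = 2 * (p : ℤ) * Fintype.card G ∨
      (C.lam * (2 * (p : ℤ) - 1) = 2 * (p : ℤ) * Fintype.card G ∧
        ∀ m : ZMod p, m ≠ 0 → C.BM C.gramC m = (C.lam : ℂ) • 1) ∨ C.Split := by
  have hcases : ∀ m : ZMod p,
      C.BM C.gramC m false false + C.BM C.gramC m true true = (C.lam : ℂ) ∨
        C.BM C.gramC m false false + C.BM C.gramC m true true = 0 ∨
        C.BM C.gramC m = (C.lam : ℂ) • 1 := by
    intro m
    by_contra hcon
    simp only [not_or] at hcon
    obtain ⟨h1, h2, h3⟩ := hcon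
    set N := C.BM C.gramC m
    have e := C.BM_gram_sq m
    have e00 : N false true * N true false + N false false * N false false =
        (C.lam : ℂ) * N false false := by
      have := congrFun (congrFun e false) false
      simpa [Matrix.mul_apply, N] using this
    have e11 : N true true * N true true + N true false * N false true =
        (C.lam : ℂ) * N true true := by
      have := congrFun (congrFun e true) true
      simpa [Matrix.mul_apply, N] using this
    have e01 : N false true * N true true + N false false * N false true =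
        (C.lam : ℂ) * N false true := by
      have := congrFun (congrFun e false) true
      simpa [Matrix.mul_apply, N] using this
    have e10 : N true true * N true false + N true false * N false false =
        (C.lam : ℂ) * N true false := by
      have := congrFun (congrFun e true) false
      simpa [Matrix.mul_apply, N] using this
    have hne : N false false + N true true - (C.lam : ℂ) ≠ 0 := sub_ne_zero.2 h1
    have hb : N false true = 0 := (mul_eq_zero.1 (show
      N false true * (N false false + N true true - (C.lam : ℂ)) = 0 by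
        linear_combination e01)).resolve_right hne
    have hc : N true false = 0 := (mul_eq_zero.1 (show
      N true false * (N false false + N true true - (C.lam : ℂ)) = 0 by
        linear_combination e10)).resolve_right hne
    have ha : N false false * (N false false - C.lam) = 0 := by
      rw [hb, hc] at e00; linear_combination e00
    have hd : N true true * (N true true - C.lam) = 0 := by
      rw [hb, hc] at e11; linear_combination e11
    rcases mul_eq_zero.1 ha with a0 | a1 <;> rcases mul_eq_zero.1 hd with d0 | d1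
    · exact h2 (by rw [a0, d0, add_zero])
    · exact h1 (by rw [a0, zero_add]; exact sub_eq_zero.1 d1)
    · exact h1 (by rw [d0, add_zero]; exact sub_eq_zero.1 a1)
    · refine h3 (Matrix.ext fun i j => ?_)
      cases i <;> cases j <;>
        simp [hb, hc, sub_eq_zero.1 a1, sub_eq_zero.1 d1]
  have hsum : ∀ c : ℤ, C.BM C.gramC 1 false false + C.BM C.gramC 1 true true = (c : ℂ) →
      2 * (Fintype.card G : ℤ) * p - (p - 1) * c = C.lam := by
    intro c hc
    rw [← C.ft_gramTr] at hc
    have hv := fun y hy => int_value C.gramTr one_ne_zero hc y hy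
    have hs : (∑ y, C.gramTr y : ℤ) = C.lam := by
      have h0 := C.ft_gramTr 0
      rw [ft_zero', (C.BM_zero_symm C.inv_gram).1] at h0
      have hdeg := C.deg_gram
      have hmu := C.mu_gram
      rw [deg] at hdeg
      rw [mu] at hmu
      have h2 : ((∑ y, C.gramTr y : ℤ) : ℂ) = (C.lam : ℂ) := by
        push_cast
        linear_combination h0 + hdeg + hmu
      exact_mod_cast h2
    have h0 : C.gramTr 0 = 2 * (Fintype.card G : ℤ) := by
      simp [gramTr, C.gram_self]; ring
    rw [← Finset.add_sum_erase _ _ (Finset.mem_univ (0 : ZMod p)),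
      Finset.sum_congr rfl (fun y hy => hv y (Finset.ne_of_mem_erase hy)), Finset.sum_const,
      Finset.card_erase_of_mem (Finset.mem_univ _), Finset.card_univ, ZMod.card, h0, nsmul_eq_mul,
      Nat.cast_sub hp.out.one_le] at hs
    push_cast at hs
    linear_combination hs
  have hgal : ∀ c : ℤ, C.BM C.gramC 1 false false + C.BM C.gramC 1 true true = (c : ℂ) →
      ∀ m : ZMod p, m ≠ 0 →
        C.BM C.gramC m false false + C.BM C.gramC m true true = (c : ℂ) := by
    intro c hc m hm
    rw [← C.ft_gramTr] at hc ⊢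
    exact int_value_eq C.gramTr one_ne_zero hm hc
  rcases hcases 1 with h | h | h
  · refine Or.inr (Or.inr ⟨?_, hgal _ h⟩)
    have := hsum _ h
    have hp' : (p : ℤ) ≠ 0 := by exact_mod_cast hp.out.ne_zero
    exact mul_left_cancel₀ hp' (by linear_combination -this)
  · refine Or.inl ?_
    have := hsum 0 (by exact_mod_cast h)
    linear_combination -this
  · refine Or.inr (Or.inl ?_)
    have h1 : C.BM C.gramC 1 false false + C.BM C.gramC 1 true true = ((2 * C.lam : ℤ) : ℂ) := by
      rw [h]; simp; ring
    refine ⟨by linear_combination -(hsum _ h1), fun m hm => ?_⟩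
    have h2 := hgal _ h1 m hm
    push_cast at h2
    rcases hcases m with h' | h' | h'
    · exact absurd (by linear_combination h' - h2 : (C.lam : ℂ) = 0) (fun e => C.lamC_ne (by simpa using e))
    · exact absurd (show (C.lam : ℂ) = 0 by linear_combination (h' - h2) / 2) C.lamC_ne
    · exact h'

theorem apply_rel {X : Matrix α α ℂ} (hX : C.Inv X) (b : α) :
    X C.a₀ b = X C.a₀ (C.rep (C.rel C.a₀ b)) := by
  conv_lhs => rw [C.expand hX]
  simp only [Matrix.sum_apply, Matrix.smul_apply, adj, Matrix.of_apply, smul_eq_mul, mul_ite,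
    mul_one, mul_zero, Finset.sum_ite_eq, Finset.mem_univ, if_true]

theorem sum_fibres (f : C.Orb → ℂ) :
    ∑ b, f (C.rel C.a₀ b) = ∑ O, (C.size O : ℂ) * f O := by
  rw [← Finset.sum_fiberwise Finset.univ (C.rel C.a₀) fun b => f (C.rel C.a₀ b)]
  refine Finset.sum_congr rfl fun O _ => ?_
  rw [Finset.sum_congr rfl (fun b hb => by rw [(Finset.mem_filter.1 hb).2]), Finset.sum_const,
    nsmul_eq_mul]
  rfl

theorem size_pos (O : C.Orb) : 0 < C.size O :=
  Finset.card_pos.2 ⟨C.rep O, Finset.mem_filter.2 ⟨Finset.mem_univ _, C.rel_rep O⟩⟩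

/-- The integral eigenvalue of an orbital at the separating vector. -/
def muZ (O : C.Orb) : ℤ := (C.cnt false false O : ℤ) - C.cnt false true O

theorem mu_adj' (O : C.Orb) : C.mu (C.adj O) = (C.muZ O : ℂ) := C.mu_adj O

theorem size_mul_gram (O : C.Orb) :
    (C.size O : ℤ) * C.gram C.a₀ (C.rep O) = C.muZ O * Fintype.card G := by
  have h := congrFun (congrFun (C.mul_gram (C.inv_adj O)) C.a₀) C.a₀
  rw [Matrix.mul_apply, C.mu_adj', Matrix.smul_apply, smul_eq_mul] at h
  simp only [gramC, Matrix.of_apply, C.gram_self] at h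
  have h2 : ∑ b, C.adj O C.a₀ b * (C.gram b C.a₀ : ℂ) =
      ∑ b, (fun O' : C.Orb => (if O' = O then (1 : ℂ) else 0) * (C.gram C.a₀ (C.rep O') : ℂ))
        (C.rel C.a₀ b) := by
    refine Finset.sum_congr rfl fun b _ => ?_
    have := C.apply_rel C.inv_gram b
    simp only [gramC, Matrix.of_apply] at this
    rw [C.gram_symm b, this]
    rfl
  rw [h2, C.sum_fibres fun O' : C.Orb =>
    (if O' = O then (1 : ℂ) else 0) * (C.gram C.a₀ (C.rep O') : ℂ)] at h
  simp only [ite_mul, one_mul, zero_mul, mul_ite, mul_zero, Finset.sum_ite_eq', Finset.mem_univ,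
    if_true] at h
  exact_mod_cast h

/-- The basic identity. -/
theorem sum_muZ_sq :
    ∑ O, (C.muZ O : ℚ) ^ 2 / (C.size O : ℚ) = (C.lam : ℚ) / (Fintype.card G : ℚ) := by
  have h : C.lam = ∑ O, C.gram C.a₀ (C.rep O) * C.muZ O := by
    have h1 : ∀ X : Matrix α α ℂ, C.Inv X → C.mu X =
        ∑ O, X C.a₀ (C.rep O) * C.mu (C.adj O) := by
      intro X hX
      conv_lhs => rw [C.expand hX]
      simp only [mu, BM, ← Finset.sum_sub_distrib]
      simp [ft, blk, Matrix.sum_apply, Finset.mul_sum, Finset.sum_mul, mul_sub, mul_assoc,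
        ← Finset.sum_sub_distrib]
      rw [Finset.sum_comm]
    have h2 := h1 _ C.inv_gram
    rw [C.mu_gram] at h2
    simp only [C.mu_adj', gramC, Matrix.of_apply] at h2
    exact_mod_cast h2
  rw [h, Int.cast_sum, Finset.sum_div]
  refine Finset.sum_congr rfl fun O _ => ?_
  have h2 : ((C.size O : ℚ) * C.gram C.a₀ (C.rep O)) = C.muZ O * (Fintype.card G : ℚ) := by
    exact_mod_cast C.size_mul_gram O
  have hs : (C.size O : ℚ) ≠ 0 := by exact_mod_cast (C.size_pos O).ne'
  have hg : (Fintype.card G : ℚ) ≠ 0 := by exact_mod_cast Fintype.card_ne_zero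
  field_simp
  push_cast
  linear_combination -(C.muZ O : ℚ) * h2

end CfsgLib.PermSmall.DoublePrime.Frame
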